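import Groth.Agent.Fdesc.LocGenPullback
import Mathlib.AlgebraicGeometry.Morphisms.QuasiCompact

/-!
# Pull back of functions and sections along a morphism landing in an open

* `rf f h`, `ps f s h` : pull back of a function, of a section, over an open containing the image of `f`;
* `ps_injective` : for the inclusion of an open;
* `Coords q e`, `Frame π F U e` : bases over the functions on the base.
-/

set_option autoImplicit false
universe u

open AlgebraicGeometry CategoryTheory CategoryTheory.Limits TopologicalSpace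

namespace K652.QPRf

open Groth.Agent.Fdesc.LocGen

variable {T T' W X Y S : Scheme.{u}}

/-- Restriction of a function along a morphism landing in an open. -/
noncomputable def rf (f : T ⟶ W) {V : W.Opens} (h : ⊤ ≤ f ⁻¹ᵁ V) : Γ(W, V) →+* Γ(T, ⊤) := (f.appLE V ⊤ h).hom

theorem rf_comp (g : T' ⟶ T) (f : T ⟶ W) {V : W.Opens} (h : ⊤ ≤ f ⁻¹ᵁ V) (h' : ⊤ ≤ (g ≫ f) ⁻¹ᵁ V) (a : Γ(W, V)) :
    g.appTop (rf f h a) = rf (g ≫ f) h' a := by
  have e0 : g.appTop = g.appLE ⊤ ⊤ le_rfl := (Scheme.Hom.appLE_eq_app g).symm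
  have e : f.appLE V ⊤ h ≫ g.appTop = (g ≫ f).appLE V ⊤ h' := by
    rw [e0]
    exact Scheme.Hom.appLE_comp_appLE g f V ⊤ ⊤ h le_rfl
  exact congr($(e) a)

theorem rf_ores (f : T ⟶ W) {V V' : W.Opens} (hV : V' ≤ V) (h : ⊤ ≤ f ⁻¹ᵁ V') (h' : ⊤ ≤ f ⁻¹ᵁ V) (a : Γ(W, V)) :
    rf f h (ores hV a) = rf f h' a := by
  rw [rf, rf, ores]
  have e := Scheme.Hom.map_appLE f h (homOfLE hV).op
  exact congr($(e) a)

theorem basicOpen_rf (f : T ⟶ W) {V : W.Opens} (h : ⊤ ≤ f ⁻¹ᵁ V) (a : Γ(W, V)) :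
    T.basicOpen (rf f h a) = f ⁻¹ᵁ (W.basicOpen a) := by
  rw [rf]
  have e := Scheme.basicOpen_appLE f ⊤ V h a
  rw [top_inf_eq] at e
  exact e

theorem rf_app (f : T ⟶ X) (π : X ⟶ S) {V : S.Opens} (h : ⊤ ≤ f ⁻¹ᵁ (π ⁻¹ᵁ V)) (h' : ⊤ ≤ (f ≫ π) ⁻¹ᵁ V)
    (a : Γ(S, V)) : rf f h (π.app V a) = rf (f ≫ π) h' a := by
  have e : π.app V ≫ f.appLE (π ⁻¹ᵁ V) ⊤ h = (f ≫ π).appLE V ⊤ h' := by
    rw [← Scheme.Hom.appLE_eq_app]
    exact Scheme.Hom.appLE_comp_appLE f π V (π ⁻¹ᵁ V) ⊤ le_rfl h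
  exact congr($(e) a)

theorem rf_congr {f g : T ⟶ W} (e : f = g) {V : W.Opens} (h : ⊤ ≤ f ⁻¹ᵁ V) (h' : ⊤ ≤ g ⁻¹ᵁ V) (a : Γ(W, V)) :
    rf f h a = rf g h' a := by
  subst e
  rfl

theorem le_preimage_ι (V : W.Opens) : ⊤ ≤ V.ι ⁻¹ᵁ V := by rw [Scheme.Opens.ι_preimage_self]

theorem rf_ι_bijective (V : W.Opens) : Function.Bijective (rf V.ι (le_preimage_ι V)) := by
  have h1 : IsIso (V.ι.app V) := V.ι.isIso_app V (by simp)
  have h2 : IsIso (homOfLE (le_preimage_ι V)) := ⟨homOfLE le_top, Subsingleton.elim _ _, Subsingleton.elim _ _⟩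
  have h3 : IsIso (V.ι.appLE V ⊤ (le_preimage_ι V)) := by
    rw [Scheme.Hom.appLE]
    infer_instance
  exact ConcreteCategory.bijective_of_isIso (V.ι.appLE V ⊤ (le_preimage_ι V))

/-- The pull back of a section over an open containing the image. -/
noncomputable def ps (f : Y ⟶ X) {L : X.Modules} {U : X.Opens} (s : Γ(L, U)) (h : ⊤ ≤ f ⁻¹ᵁ U) :
    Γ((Scheme.Modules.pullback f).obj L, ⊤) := res _ h (pullSec f s)

section ps

variable (f : Y ⟶ X) {L : X.Modules} {U : X.Opens} (h : ⊤ ≤ f ⁻¹ᵁ U)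

theorem ps_add (s t : Γ(L, U)) : ps f (s + t) h = ps f s h + ps f t h := by
  rw [ps, pullSec_add, map_add]
  rfl

theorem ps_smul (a : Γ(X, U)) (s : Γ(L, U)) : ps f (a • s) h = rf f h a • ps f s h := by
  rw [ps, pullSec_smul, res_smul]
  congr 1

/-- As a homomorphism. -/
noncomputable def psHom : Γ(L, U) →+ Γ((Scheme.Modules.pullback f).obj L, ⊤) where
  toFun s := ps f s h
  map_zero' := by
    have h1 := ps_add f h (0 : Γ(L, U)) 0
    rw [add_zero] at h1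
    exact left_eq_add.1 h1
  map_add' := ps_add f h

theorem ps_sum_smul {κ : Type*} [Fintype κ] (a : κ → Γ(X, U)) (s : κ → Γ(L, U)) :
    ps f (∑ k, a k • s k) h = ∑ k, rf f h (a k) • ps f (s k) h := by
  refine (map_sum (psHom f h) _ _).trans ?_
  exact Finset.sum_congr rfl fun k _ => ps_smul f h (a k) (s k)

theorem ps_res {V : X.Opens} (hV : V ≤ U) (h' : ⊤ ≤ f ⁻¹ᵁ V) (s : Γ(L, U)) :
    ps f (res L hV s) h' = ps f s h := by
  rw [ps, ← res_pullSec, res_res]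
  rfl

theorem ps_top (s : Γ(L, ⊤)) (h : ⊤ ≤ f ⁻¹ᵁ (⊤ : X.Opens)) : ps f s h = pullTop f s := by
  rw [ps, pullTop]
  exact res_refl _ _

theorem ps_eq_pullTop_res (s : Γ(L, ⊤)) : ps f (res L (le_top : U ≤ ⊤) s) h = pullTop f s := by
  rw [ps_res f le_rfl le_top h]
  exact ps_top f s _

/-- Composition of pull backs. -/
theorem ps_comp (g : W ⟶ Y) (s : Γ(L, U)) (h' : ⊤ ≤ (g ≫ f) ⁻¹ᵁ U) :
    ((Scheme.Modules.pullbackComp g f).hom.app L).app ⊤ (pullTop g (ps f s h)) = ps (g ≫ f) s h' := by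
  have h'' : ⊤ ≤ g ⁻¹ᵁ (f ⁻¹ᵁ U) := h'
  have h1 : pullTop g (ps f s h) = res _ h'' (pullSec g (pullSec f s)) := by
    rw [pullTop, ps, ← res_pullSec]
    rfl
  rw [h1]
  refine (app_res ((Scheme.Modules.pullbackComp g f).hom.app L) h'' (pullSec g (pullSec f s))).trans ?_
  exact congrArg (res _ h'') (pullSec_comp' g f s)

end ps

theorem pullSec_injective (f : Y ⟶ X) [IsOpenImmersion f] {L : X.Modules} {U : X.Opens} (hU : U ≤ f.opensRange) :
    Function.Injective (pullSec f : Γ(L, U) → Γ((Scheme.Modules.pullback f).obj L, f ⁻¹ᵁ U)) := by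
  intro s t hst
  rw [← restrictFunctorIsoPullback_hom_app, ← restrictFunctorIsoPullback_hom_app] at hst
  have h1 : ∀ m : Γ(L.restrict f, f ⁻¹ᵁ U),
      ((Scheme.Modules.restrictFunctorIsoPullback f).inv.app L).app (f ⁻¹ᵁ U)
        (((Scheme.Modules.restrictFunctorIsoPullback f).hom.app L).app (f ⁻¹ᵁ U) m) = m := by
    intro m
    have e : (Scheme.Modules.restrictFunctorIsoPullback f).hom.app L ≫
        (Scheme.Modules.restrictFunctorIsoPullback f).inv.app L = 𝟙 _ := by simp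
    exact congr(($(e).app _) m)
  have h2 := congrArg (((Scheme.Modules.restrictFunctorIsoPullback f).inv.app L).app (f ⁻¹ᵁ U)) hst
  rw [h1, h1] at h2
  have h3 := (toRestrict (M := L) f (U := f ⁻¹ᵁ U)).injective h2
  have h4 : U ≤ f ''ᵁ (f ⁻¹ᵁ U) := by
    rw [f.image_preimage_eq_opensRange_inf]
    exact le_inf hU le_rfl
  have h5 := congrArg (res L h4) h3
  rw [res_res, res_res, res_refl, res_refl] at h5
  exact h5

theorem ps_injective {L : X.Modules} (U : X.Opens) :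
    Function.Injective (fun s : Γ(L, U) => ps U.ι s (le_preimage_ι U)) := by
  intro s t hst
  have h1 := congrArg (res _ (le_top : U.ι ⁻¹ᵁ U ≤ ⊤)) hst
  simp only [ps, res_res] at h1
  rw [res_refl, res_refl] at h1
  exact pullSec_injective U.ι (by simp) h1

/-- The sections `e` are a basis over the functions on the base. -/
def Coords (q : Y ⟶ T) {N : Y.Modules} {h : ℕ} (e : Fin h → Γ(N, ⊤)) : Prop :=
  ∀ s : Γ(N, ⊤), ∃! c : Fin h → Γ(T, ⊤), s = ∑ l, (q.appTop (c l)) • e l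

/-- The sections `e` over `π⁻¹ U` are a basis after every base change to an affine scheme over `U`. -/
def Frame (π : X ⟶ S) (F : X.Modules) (U : S.Opens) {h : ℕ} (e : Fin h → Γ(F, π ⁻¹ᵁ U)) : Prop :=
  ∀ {Y T : Scheme.{u}} [IsAffine T] (f : Y ⟶ X) (q : Y ⟶ T) (α : T ⟶ S), IsPullback f q π α →
    ⊤ ≤ α ⁻¹ᵁ U → ∀ hf : ⊤ ≤ f ⁻¹ᵁ (π ⁻¹ᵁ U), Coords q (fun l => ps f (e l) hf)

theorem Frame.res {π : X ⟶ S} {F : X.Modules} {U : S.Opens} {h : ℕ} {e : Fin h → Γ(F, π ⁻¹ᵁ U)}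
    (he : Frame π F U e) {V : S.Opens} (hVU : V ≤ U) :
    Frame π F V (fun l => Groth.Agent.Fdesc.LocGen.res F (π.preimage_mono hVU) (e l)) := by
  intro Y T _ f q α sq hα hf
  have h1 := he f q α sq (hα.trans (α.preimage_mono hVU)) (hf.trans (f.preimage_mono (π.preimage_mono hVU)))
  have h2 : (fun l => ps f (Groth.Agent.Fdesc.LocGen.res F (π.preimage_mono hVU) (e l)) hf) =
      fun l => ps f (e l) (hf.trans (f.preimage_mono (π.preimage_mono hVU))) :=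
    funext fun l => ps_res f _ _ hf (e l)
  rw [h2]
  exact h1

/-- Coordinates of sections over the preimage of an affine open. -/
theorem Frame.exists_coords {π : X ⟶ S} {F : X.Modules} {U : S.Opens} {h : ℕ} {e : Fin h → Γ(F, π ⁻¹ᵁ U)}
    (he : Frame π F U e) (hU : IsAffineOpen U) (s : Γ(F, π ⁻¹ᵁ U)) :
    ∃ c : Fin h → Γ(S, U), s = ∑ l, (π.app U (c l)) • e l := by
  have hsq : IsPullback (π ⁻¹ᵁ U).ι (π ∣_ U) π U.ι := (isPullback_morphismRestrict π U).flip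
  have : IsAffine (U : Scheme.{u}) := hU
  obtain ⟨c', hc', -⟩ := he (π ⁻¹ᵁ U).ι (π ∣_ U) U.ι hsq (le_preimage_ι U) (le_preimage_ι _)
    (ps (π ⁻¹ᵁ U).ι s (le_preimage_ι _))
  choose c hc using fun l => (rf_ι_bijective U).2 (c' l)
  refine ⟨c, ps_injective (L := F) (π ⁻¹ᵁ U) ?_⟩
  change ps _ _ _ = ps _ _ _
  rw [hc', ps_sum_smul]
  refine Finset.sum_congr rfl fun l _ => ?_
  congr 1
  rw [← hc l, rf_comp (π ∣_ U) U.ι (le_preimage_ι U) (by rw [← hsq.w]; exact le_preimage_ι (π ⁻¹ᵁ U)),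
    rf_app (π ⁻¹ᵁ U).ι π (le_preimage_ι _) (le_preimage_ι _)]
  exact rf_congr hsq.w.symm _ _ _

end K652.QPRf
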