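import Groth.Agent.Coherent.K54.PushH1
import Groth.Agent.AgPol.K652.QPRf
import Groth.Agent.Sga67.LocBasis

/-!
# Universal frames of the direct image of a flat family with vanishing `H^1` of the fibres

* `exists_frame` : frames exist near a point at which `H^1` of the fibre vanishes.
-/

set_option autoImplicit false
universe u

open AlgebraicGeometry CategoryTheory CategoryTheory.Limits Scheme.Modules TensorProduct

namespace K652.QPFrame

open Groth.Agent Groth.Agent.Fdesc.LocGen Groth.Agent.CohqA.PullbackAffine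
  Groth.Agent.CohqA.PullbackSections Groth.Agent.CohqA.AffineBaseChange
  Groth.Agent.CohqA.BaseChangeMod K652.QPRf

section alg

variable {A B : Type u} [CommRing A] [CommRing B] {φ : A →+* B} {M N : Type u} [AddCommGroup M] [Module A M]
  [AddCommGroup N] [Module B N] {f : M →+ N}

/-- Base change of a basis. -/
theorem existsUnique_coords (hf : IsBC φ f) {h : ℕ} (b : Module.Basis (Fin h) A M) (s : N) :
    ∃! c : Fin h → B, s = ∑ l, c l • f (b l) := by
  classical
  -- the coordinates
  obtain ⟨g, hg, -⟩ := hf.lift (Fin h → B)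
    { toFun := fun x l => φ (b.repr x l)
      map_zero' := by ext l; simp
      map_add' := fun x y => by ext l; simp } (fun r x => by ext l; simp)
  have hgb : ∀ l, g (f (b l)) = Pi.single l 1 := fun l => by
    rw [hg]
    funext k
    change φ (b.repr (b l) k) = _
    rw [Module.Basis.repr_self, Finsupp.single_apply, Pi.single_apply]
    split_ifs with h1 h2 h2
    · exact map_one φ
    · exact absurd h1.symm h2
    · exact absurd h2.symm h1
    · exact map_zero φ
  have hs : s ∈ Submodule.span B (Set.range fun l => f (b l)) := by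
    have h1 : s ∈ Submodule.span B (Set.range f) := by
      rw [K54.PushBC.span_of_isBC hf]
      trivial
    refine (Submodule.span_le (p := Submodule.span B (Set.range fun l => f (b l)))).2 ?_ h1
    rintro _ ⟨x, rfl⟩
    rw [← b.sum_repr x, map_sum]
    refine Submodule.sum_mem _ fun l _ => ?_
    rw [hf.map_smul]
    exact Submodule.smul_mem _ _ (Submodule.subset_span ⟨l, rfl⟩)
  obtain ⟨c, hc⟩ := (Submodule.mem_span_range_iff_exists_fun B).1 hs
  refine ⟨c, hc.symm, fun c' hc' => ?_⟩
  have h1 : ∀ d : Fin h → B, g (∑ l, d l • f (b l)) = d := fun d => by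
    rw [map_sum]
    funext k
    simp [hgb, Pi.single_apply]
  rw [← h1 c', ← h1 c, ← hc', hc]

end alg

variable {X S : Scheme.{u}}

/-- The frame of a free module over an affine open where base change holds. -/
theorem frame_of_basis (π : X ⟶ S) (F : X.Modules) [QuasiCompact π] [QuasiSeparated π] (hF : Coh.IsQCoh F)
    {U : S.Opens} (hbc : ∀ {X' Z : Scheme.{u}} (f : X' ⟶ X) (ζ : X' ⟶ Z) (α : Z ⟶ S) (h : IsPullback f ζ π α),
        (∀ z : Z, α z ∈ U) → CohqA.PullbackUniv.IsUniv α (pushSquare π α f ζ h.w (pbUnit f F)))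
    {V : S.Opens} (hV : IsAffineOpen V) (hVU : V ≤ U) {h : ℕ}
    (b : Module.Basis (Fin h) Γ(S, V) Γ((Scheme.Modules.pushforward π).obj F, V)) :
    Frame π F V (fun l => (b l : Γ(F, π ⁻¹ᵁ V))) := by
  intro Y T _ f q α sq hα hf s
  have hM : ((Scheme.Modules.pushforward π).obj F).IsQuasicoherent := Ega1.QcqsPush.isQCoh_pushforward π F hF
  have h1 := hbc f q α sq fun z => hVU (hα (show z ∈ (⊤ : T.Opens) from trivial))
  have h2 := isBC_secMap α _ h1 hV (isAffineOpen_top T) hα
  have h3 := existsUnique_coords h2 b (s : Γ((Scheme.Modules.pushforward q).obj ((Scheme.Modules.pullback f).obj F), ⊤))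
  have h4 : ∀ l, secMap α (pushSquare π α f q sq.w (pbUnit f F)) V ⊤ hα (b l) = ps f (b l : Γ(F, π ⁻¹ᵁ V)) hf :=
    fun l => secMap_pushSquare π α f q sq.w (pbUnit f F) V ⊤ hα hf (b l)
  refine (existsUnique_congr fun c => ?_).1 h3
  have h5 : (∑ l, c l • (secMap α (pushSquare π α f q sq.w (pbUnit f F)) V ⊤ hα).hom (b l)) =
      (∑ l, (q.appTop (c l)) • ps f (b l : Γ(F, π ⁻¹ᵁ V)) hf : Γ((Scheme.Modules.pullback f).obj F, ⊤)) := by
    refine Finset.sum_congr rfl fun l _ => ?_
    exact congrArg (fun t : Γ((Scheme.Modules.pushforward q).obj ((Scheme.Modules.pullback f).obj F), ⊤) => c l • t) (h4 l)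
  rw [h5]
  exact Iff.rfl

/-- **Frames exist near a point at which `H^1` of the fibre vanishes.** -/
theorem exists_frame (π : X ⟶ S) (F : X.Modules) [IsProper π] [LocallyOfFinitePresentation π]
    (hF : Coh.IsQCoh F) (hfp : CohB1.IsFP F) (hfl : FlatMod.IsFlatOver π F) (s : S)
    (h1 : Subsingleton (CohIII.fiberH π F s 1)) :
    ∃ (U : S.Opens) (h : ℕ) (e : Fin h → Γ(F, π ⁻¹ᵁ U)), s ∈ U ∧ IsAffineOpen U ∧ Frame π F U e := by
  obtain ⟨_, ⟨V, hV, rfl⟩, hsV, -⟩ := S.isBasis_affineOpens.exists_subset_of_mem_open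
    (show s ∈ ((⊤ : S.Opens) : Set S) from trivial) (⊤ : S.Opens).isOpen
  obtain ⟨K, hK⟩ := K54.PushSec.exists_compData π F hfp hfl hV
  have hs := K54.PushSec.secData π F hV K hK
  have h2 := K54.PushH1.subsingleton_HB π F hF hV K hK ⟨s, hsV⟩ 1 h1
  have h3 := (K55.KerAlg.of_subsingleton_ker (K.exact 1) (K.surj 1) _ h2).2.1
  obtain ⟨g, hyg, hg⟩ := K54.PushBC.exists_basic hV ⟨s, hsV⟩ h3
  obtain ⟨h4, h5⟩ := K54.PushBC.finite_projective_of_basic π F hV K hs g hg
  have h6 : Module.FinitePresentation Γ(S, S.basicOpen g) Γ((Scheme.Modules.pushforward π).obj F, S.basicOpen g) :=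
    Module.finitePresentation_of_projective _ _
  have hM : ((Scheme.Modules.pushforward π).obj F).IsQuasicoherent := Ega1.QcqsPush.isQCoh_pushforward π F hF
  obtain ⟨U, hsU, hU, e⟩ := Ega3B.LocFree.exists_restrict_iso_freeMod ((Scheme.Modules.pushforward π).obj F)
    (hV.basicOpen g) ⟨s, hyg⟩
  obtain ⟨b, hb⟩ := Groth.Agent.Sga67.LocBasis.nonempty_restrict_iso_iff.1 e
  obtain ⟨_, ⟨V', hV', rfl⟩, hsV', hVU'⟩ := S.isBasis_affineOpens.exists_subset_of_mem_open
    (show s ∈ (U : Set S) from hsU) U.isOpen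
  refine ⟨V', _, _, hsV', hV', frame_of_basis π F hF (U := S.basicOpen g) ?_ hV' (hVU'.trans hU)
    (hb.basis (show V' ≤ U from hVU'))⟩
  intro X' Z f ζ α h hz
  exact K54.PushBC.isIso_of_basic π F hF hV K hs g hg f ζ α h hz

end K652.QPFrame
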