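import Groth.Agent.AgPol.K652.QPAsm
import Groth.Agent.AgPol.K185.Fib
import Groth.Agent.AgPol.K302.CutBC
import Groth.Agent.AgPol.K302.Loc
import Groth.Agent.AgPol.K46.Cut
import Groth.Agent.AgPol.K382.Inj
import Groth.Agent.AgPol.K382.Lev
import Groth.Agent.AgPol.K382.LevCover
import Groth.Agent.AgPol.K116.QPCoreR
import Groth.Agent.AgPol.K533.RelVA
import Groth.Agent.AgPol.K533.Amp
import Groth.Agent.AgPol.K117.QPFin
import Groth.Agent.AgPol.K817.Closed
import Groth.Agent.AgPol.K515.RankFam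
import Groth.Agent.AgPol.K814.RankPush
import Groth.Agent.S14161

/-!
# The quasi-projectivity node `K117.Ag.Node.QP`
-/

set_option autoImplicit false
universe u

open CategoryTheory Limits MonoidalCategory CartesianMonoidalCategory AlgebraicGeometry
open scoped MonObj

namespace K652.QPMain

open Groth.Agent.Grpsch.PicGrp K652.QPNodes K652.QPStep K652.QPChart K652.QPAsm K117.Ag

theorem fibStmt : FibStmt.{u} := by
  intro Ω _ _ X X' _ _ m D i i' _ _ hc hc' J x x' hx hinj hinj'
  exact K185.Fib.fib _ _ i i' rfl rfl hc hc' x x' hx hinj hinj'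

theorem linStmt : LinStmt.{u} := by
  intro m T g g' h h'
  obtain ⟨G, -, -, h3, h4⟩ := K302.CutBC.exists_lin T g g' h h'
  exact ⟨G, fun X q L e r r' => h3 X q L e r r', fun D X i hc => h4 X i D hc⟩

theorem injStmt {g d : ℕ} (hg : 1 ≤ g) : InjStmt.{u} g d := by
  intro S A _ _ hA c hc j hj Ω _ _ t N hN hb F hF hFc s hs
  exact K382.Inj.inj A hg hA hc j hj Ω t N hN hb F hF hFc s hs

theorem h1Stmt (g d : ℕ) : H1Stmt.{u} g d := by
  intro S _ A _ _ hA c hc j hj L hL hLc s
  have i1 := hA.smooth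
  have i2 := hA.proper
  have i3 := hA.geomConnected
  have i4 : GeometricallyIntegral A.hom := K814.AbBasic.geometricallyIntegral A
  have h1 : ∀ s : S, CohB1.IsAmple ((Scheme.Modules.pullback (pullback.fst A.hom (S.fromSpecResidueField s))).obj L) :=
    fun s => (K515.RankFam.fibre_pol (fun S _ A At _ _ _ _ => Groth.Agent.S14161.result S A At) A hA hc j hj L hL 1
      (by rw [hLc, map_one, mul_one]) (S.residueField s) (S.fromSpecResidueField s)).1
  have h2 : RelAmple.IsRelAmple A.hom L := (Groth.Agent.S12128.result A.hom L hL).2 h1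
  rw [K814.GamFib.subsingleton_fiberH_iff A.hom hL]
  exact K814.RankPush.fiberRank_eq_zero hL (K814.RankPush.FA_of_isRelAmple A.hom hL h2) s 1 Nat.one_pos

/-- **Quasi-projectivity.** -/
theorem main {g d n : ℕ} (hg : 1 ≤ g) (hn : 2 ≤ n) : Node.QP.{u} g d n :=
  QPAsm.main K533.Amp.main fibStmt linStmt (K302.Loc.loc K46.Cut.cut) (injStmt hg)
    (fun M ξ _ hok Q => K382.Lev.lev K382.LevCover.main hg hn M ξ hok Q)
    (fun x y hx hy θ h1 hs K hK hc => K116.QPCoreR.core_r x y hx hy θ h1 hs K hK hc)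
    (fun π _ L hL h => K533.RelVA.exists_va π L hL h) (h1Stmt g d)
    (fun q _ _ _ p _ _ _ _ ρ hq r f hf _ => K117.QPFin.main_proj q p ρ hq r f hf)
    (fun k z hz => K817.Closed.ok_pull k hz)

end K652.QPMain
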