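import Groth.Agent.AgPol.K117.GlueMod3
import Groth.Agent.AgPol.K540.Rig3Laws

/-!
# Gluing fine moduli schemes over an open covering of the base

* `exists_glued`: a moduli problem with the stack laws that has a universal family over the parts of the base in
  an open covering has a universal family;
* `of_local`: properties of the structure morphism;
* `core_glue`: core families of level `n ≥ 3`.
-/

set_option autoImplicit false
universe u v

open CategoryTheory Limits AlgebraicGeometry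

namespace K652.FGlue

open K117.Ag K117.Ag.GlueMod

noncomputable section

variable {S : Scheme.{u}}

/-- Families over schemes lying over the open `V` of the base. -/
def OnV (F : ModFun.Problem.{v} S) (V : S.Opens) : ∀ T : Over S, F.Fam T → Prop :=
  fun T _ => Set.range T.hom ⊆ (V : Set S)

variable {F : ModFun.Problem.{v} S} {κ : Type u} (V : κ → S.Opens) (hV : ⨆ i, V i = ⊤)

theorem range_iff {T T' : Over S} (k : T' ⟶ T) (W : S.Opens) :
    Set.range T'.hom ⊆ (W : Set S) ↔ Set.range k.left ⊆ (T.hom ⁻¹ᵁ W : T.left.Opens) := by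
  constructor
  · rintro h _ ⟨y, rfl⟩
    change T.hom (k.left y) ∈ W
    have e : T.hom (k.left y) = T'.hom y := by rw [← Scheme.Hom.comp_apply, Over.w]
    rw [e]
    exact h ⟨y, rfl⟩
  · rintro h _ ⟨y, rfl⟩
    have h1 : T.hom (k.left y) ∈ W := h ⟨y, rfl⟩
    have e : T.hom (k.left y) = T'.hom y := by rw [← Scheme.Hom.comp_apply, Over.w]
    rwa [e] at h1

variable {M : κ → Over S} {ξ : ∀ i, F.Fam (M i)} (hM : ∀ i, LN S (M i))
  (hu : ∀ i, ModFun.IsUnivFamily (LN S) (F.restrict (OnV F (V i))) (M i) (ξ i))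

include hV in
/-- The gluing data. -/
def dat : Dat F where
  κ := κ
  Q i := OnV F (V i)
  hr _ _ _ _ _ _ _ _ h := h
  hp i T T' k x _ _ _ h := by
    refine (range_iff k (V i)).2 ?_
    rintro _ ⟨y, rfl⟩
    exact h ⟨_, rfl⟩
  ho i T x _ _ := ⟨T.hom ⁻¹ᵁ V i, fun T' k _ => range_iff k (V i)⟩
  hc T x _ _ t := by
    have h1 : T.hom t ∈ ⨆ i, V i := by rw [hV]; trivial
    obtain ⟨i, hi⟩ := TopologicalSpace.Opens.mem_iSup.1 h1
    refine ⟨i, T.hom ⁻¹ᵁ V i, hi, ?_⟩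
    change Set.range (resO T (T.hom ⁻¹ᵁ V i)).hom ⊆ _
    rw [range_iff (resH T (T.hom ⁻¹ᵁ V i)) (V i), range_resH]
  M := M
  ξ := ξ
  hM := hM
  hu := hu

theorem chart (L : Laws F) (D : Dat F) {ζ : F.Fam (D.N L)} (h1 : F.ok _ ζ)
    (h2 : ∀ i, F.r _ (F.pull (resH _ (D.O L i)) ζ) (F.pull (D.s L i) (D.ξ i))) (i : D.κ) (W : S.Opens)
    (hQ : ∀ T x, D.Q i T x ↔ Set.range T.hom ⊆ (W : Set S)) :
    IsOpenImmersion (D.jj L i).left ∧ Set.range (D.jj L i).left = ((D.N L).hom ⁻¹ᵁ W : (D.N L).left.Opens) ∧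
      F.r _ (F.pull (D.jj L i) ζ) (D.ξ i) := by
  refine ⟨inferInstance, le_antisymm ?_ ?_, ?_⟩
  · exact (range_iff (D.jj L i) W).1 ((hQ _ _).1 (D.qM i))
  · have h3 := Dat.range_subset L h1 h2 i (ln_resO (D.lnN L) ((D.N L).hom ⁻¹ᵁ W)) (resH (D.N L) _) (by
      rw [hQ]
      rw [range_iff (resH (D.N L) ((D.N L).hom ⁻¹ᵁ W)) W, range_resH])
    rw [range_resH] at h3
    exact h3
  · have h3 := Dat.r_jj L h1 h2 i (D.hM i) (𝟙 (D.M i))
    rw [Category.id_comp] at h3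
    refine L.trans _ _ _ _ (L.pull_ok _ _ (D.lnN L) (D.hM i) h1) (L.pull_ok _ _ (D.hM i) (D.hM i) (D.okM i))
      (D.okM i) h3 (L.pull_id _ _ (D.hM i) (D.okM i))

include hV hM hu in
/-- **Gluing universal families over an open covering of the base.** -/
theorem exists_glued (L : Laws F) : ∃ (N : Over S) (ζ : F.Fam N), LN S N ∧ ModFun.IsUnivFamily (LN S) F N ζ ∧
    ∀ i, ∃ j : M i ⟶ N, IsOpenImmersion j.left ∧ Set.range j.left = (N.hom ⁻¹ᵁ V i : N.left.Opens) ∧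
      F.r _ (F.pull j ζ) (ξ i) := by
  obtain ⟨ζ, h1, h2⟩ := (dat V hV hM hu).exists_ζ L
  exact ⟨_, ζ, (dat V hV hM hu).lnN L, Dat.isUniv L h1 h2,
    fun i => ⟨(dat V hV hM hu).jj L i, chart L (dat V hV hM hu) h1 h2 i (V i) fun _ _ => Iff.rfl⟩⟩

include hV in
/-- Properties of the structure morphism of the glued scheme. -/
theorem of_local (P : MorphismProperty Scheme.{u}) [P.IsStableUnderBaseChange] [IsZariskiLocalAtTarget P]
    {N : Over S} (h : ∀ i, ∃ j : M i ⟶ N, IsOpenImmersion j.left ∧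
      Set.range j.left = (N.hom ⁻¹ᵁ V i : N.left.Opens)) (hP : ∀ i, P (M i).hom) : P N.hom := by
  refine (IsZariskiLocalAtTarget.iff_of_iSup_eq_top (P := P) V hV).2 fun i => ?_
  obtain ⟨j, hj, hr⟩ := h i
  have hsub : Set.range (M i).hom ⊆ Set.range (V i).ι := by
    rw [Scheme.Opens.range_ι]
    exact (range_iff j (V i)).2 hr.le
  let l : (M i).left ⟶ V i := IsOpenImmersion.lift (V i).ι (M i).hom hsub
  have hl : l ≫ (V i).ι = (M i).hom := IsOpenImmersion.lift_fac _ _ _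
  have hpb : IsPullback (𝟙 (M i).left) l (M i).hom (V i).ι := by
    refine ⟨⟨by rw [Category.id_comp, hl]⟩, ⟨PullbackCone.IsLimit.mk _ (fun s => s.fst) (fun s => ?_) (fun s => ?_)
      fun s m h1 _ => ?_⟩⟩
    · exact Category.comp_id _
    · rw [← cancel_mono (V i).ι, Category.assoc, hl, s.condition]
    · rw [← h1]; exact (Category.comp_id _).symm
  have hPl : P l := MorphismProperty.of_isPullback hpb (hP i)
  let e : (M i).left ≅ (N.hom ⁻¹ᵁ V i : N.left.Opens).toScheme :=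
    IsOpenImmersion.isoOfRangeEq j.left (N.hom ⁻¹ᵁ V i).ι (by rw [hr, Scheme.Opens.range_ι])
  have he : e.hom ≫ (N.hom ∣_ V i) = l := by
    rw [← cancel_mono (V i).ι, Category.assoc, morphismRestrict_ι, hl, ← Category.assoc,
      IsOpenImmersion.isoOfRangeEq_hom_fac, Over.w]
  rw [← he] at hPl
  exact (P.cancel_left_of_respectsIso e.hom _).1 hPl

/-- **Gluing of fine moduli schemes of core families of level `n ≥ 3`** over an open covering of the base. -/
theorem core_glue {g d n : ℕ} (hn : 3 ≤ n) {κ : Type u} (V : κ → S.Opens) (hV : ⨆ i, V i = ⊤) {M : κ → Over S}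
    {z : ∀ i, Core (M i) g} (hM : ∀ i, LN S (M i))
    (hu : ∀ i, ModFun.IsUnivFamily (LN S) ((CoreP S g d n).restrict (OnV (CoreP S g d n) (V i))) (M i) (z i)) :
    ∃ (N : Over S) (ζ : Core N g), LN S N ∧ ModFun.IsUnivFamily (LN S) (CoreP S g d n) N ζ ∧
      (∀ i, ∃ j : M i ⟶ N, IsOpenImmersion j.left ∧ Set.range j.left = (N.hom ⁻¹ᵁ V i : N.left.Opens) ∧
        Core.r _ (ζ.pull j) (z i)) ∧
      ∀ (P : MorphismProperty Scheme.{u}) [P.IsStableUnderBaseChange] [IsZariskiLocalAtTarget P],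
        (∀ i, P (M i).hom) → P N.hom := by
  obtain ⟨N, ζ, h1, h2, h3⟩ := exists_glued (F := CoreP S g d n) V hV hM hu (K540.Ag.Rig3.coreLaws hn S)
  refine ⟨N, ζ, h1, h2, h3, fun P _ _ hP => of_local V hV P (fun i => ?_) hP⟩
  obtain ⟨j, a, b, -⟩ := h3 i
  exact ⟨j, a, b⟩

/-- **Gluing of fine moduli schemes of core families of level `n ≥ 3`** over two opens covering the base. -/
theorem core_glue₂ {g d n : ℕ} (hn : 3 ≤ n) (V W : S.Opens) (hVW : V ⊔ W = ⊤) {M₁ M₂ : Over S}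
    {z₁ : Core M₁ g} {z₂ : Core M₂ g} (hM₁ : LN S M₁) (hM₂ : LN S M₂)
    (hu₁ : ModFun.IsUnivFamily (LN S) ((CoreP S g d n).restrict (OnV (CoreP S g d n) V)) M₁ z₁)
    (hu₂ : ModFun.IsUnivFamily (LN S) ((CoreP S g d n).restrict (OnV (CoreP S g d n) W)) M₂ z₂) :
    ∃ (N : Over S) (ζ : Core N g), LN S N ∧ ModFun.IsUnivFamily (LN S) (CoreP S g d n) N ζ ∧
      (∃ j : M₁ ⟶ N, IsOpenImmersion j.left ∧ Set.range j.left = (N.hom ⁻¹ᵁ V : N.left.Opens) ∧
        Core.r _ (ζ.pull j) z₁) ∧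
      (∃ j : M₂ ⟶ N, IsOpenImmersion j.left ∧ Set.range j.left = (N.hom ⁻¹ᵁ W : N.left.Opens) ∧
        Core.r _ (ζ.pull j) z₂) ∧
      ∀ (P : MorphismProperty Scheme.{u}) [P.IsStableUnderBaseChange] [IsZariskiLocalAtTarget P],
        P M₁.hom → P M₂.hom → P N.hom := by
  let κ : Type u := ULift.{u} Bool
  let V' : κ → S.Opens := fun i => match i with | ⟨true⟩ => V | ⟨false⟩ => W
  let M' : κ → Over S := fun i => match i with | ⟨true⟩ => M₁ | ⟨false⟩ => M₂
  let z' : ∀ i, Core (M' i) g := fun i => match i with | ⟨true⟩ => z₁ | ⟨false⟩ => z₂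
  have hV' : ⨆ i, V' i = ⊤ := by
    rw [eq_top_iff, ← hVW]
    exact sup_le (le_iSup V' ⟨true⟩) (le_iSup V' ⟨false⟩)
  obtain ⟨N, ζ, h1, h2, h3, h4⟩ := core_glue (d := d) hn V' hV' (M := M') (z := z')
    (fun i => match i with | ⟨true⟩ => hM₁ | ⟨false⟩ => hM₂)
    (fun i => match i with | ⟨true⟩ => hu₁ | ⟨false⟩ => hu₂)
  exact ⟨N, ζ, h1, h2, h3 ⟨true⟩, h3 ⟨false⟩, fun P _ _ a b => h4 P fun i => match i with | ⟨true⟩ => a | ⟨false⟩ => b⟩

end

end K652.FGlue
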