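import Groth.Agent.AgPol.K117.Defs

/-!
# Auxiliary nodes for the quasi-projectivity node `K117.Ag.Node.QP`

* `IsoPol` : polarisation classes transport along isomorphisms of abelian schemes;
* `PolUniqK` : a polarisation class is determined by any power;
* `CutOut`, `Cut` : closed subschemes of `P^m_T`, `T` affine Noetherian, are cut out by forms of every large degree.
-/

set_option autoImplicit false
universe u

open CategoryTheory Limits MonoidalCategory CartesianMonoidalCategory AlgebraicGeometry
open scoped MonObj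

namespace K652.QPNodes

open Groth.Agent.Grpsch.PicGrp Groth.Agent.Fdesc.LocGen

noncomputable section

/-- Polarisation classes transport along isomorphisms of abelian schemes. -/
def IsoPol : Prop :=
  ∀ (S : Scheme.{u}) (A B : Over S) [GrpObj A] [GrpObj B] [IsCommMonObj A] [IsCommMonObj B] (g d : ℕ),
    AgPol.IsAbSch A g → AgPol.IsAbSch B g → ∀ e : A ≅ B, IsMonHom e.hom →
      ∀ c : Pic B.left, K117.Ag.IsPolCl B d c → K117.Ag.IsPolCl A d (pull e.hom.left c)

/-- A normalised polarisation class is determined by any of its powers. -/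
def PolUniqK : Prop :=
  ∀ (T : Scheme.{u}) [IsLocallyNoetherian T] (A : Over T) [GrpObj A] [IsCommMonObj A] (g d K : ℕ), 1 ≤ K →
    AgPol.IsAbSch A g → ∀ c c' : Pic A.left, K117.Ag.IsPolCl A d c → K117.Ag.IsPolCl A d c' →
      c ^ K = c' ^ K → c = c'

/-- The class of `O(1)` on `P^m_T`. -/
def o1T (m : ℕ) (T : Scheme.{u}) : Pic (CohB1.ProjSpaceOver m T) := pull (Groth.Agent.Dix.ProjProper.toZ m T) (K117.Ag.o1 m)

/-- The image of `i` is the intersection of the zero sets of the forms of degree `D` vanishing on it. -/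
def CutOut {m : ℕ} {T X : Scheme.{u}} (D : ℕ) (i : X ⟶ CohB1.ProjSpaceOver m T) : Prop :=
  ∀ (N : (CohB1.ProjSpaceOver m T).Modules) (hN : PicF.IsInvertible N), mk N hN = o1T m T ^ D →
    ∀ z, z ∉ Set.range i → ∃ s : Γ(N, ⊤), pullTop i s = 0 ∧ z ∈ CohB1.genLocus N (homOf s)

/-- Closed subschemes of `P^m_T` are cut out by forms of every large degree. -/
def Cut : Prop :=
  ∀ (m : ℕ) (T X : Scheme.{u}) [IsAffine T] [IsNoetherian T] (i : X ⟶ CohB1.ProjSpaceOver m T)
    [IsClosedImmersion i], ∃ D₀ : ℕ, ∀ D : ℕ, D₀ ≤ D → CutOut D i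

end

end K652.QPNodes
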