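import Groth.Agent.AgPol.K652.QPRf
import Groth.Agent.AgPol.K652.QPNodes
import Groth.Prelude.Def_ega3

/-!
# Embedded charts of a projective family, the node `Loc`
-/

set_option autoImplicit false
universe u

open AlgebraicGeometry CategoryTheory CategoryTheory.Limits TopologicalSpace

namespace K652.QPChart

open Groth.Agent.Fdesc.LocGen K390.PnSec K652.QPRf K652.QPNodes

/-- `e` is a frame of `L` over `U` of size `≤ B`, and at every geometric point of `U` it embeds the fibre as a closed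
subscheme of projective space cut out by forms of degree `D`. -/
def HasChart {S X : Scheme.{u}} (π : X ⟶ S) (L : X.Modules) (D B : ℕ) (U : S.Opens) {m : ℕ}
    (e : Fin (m + 1) → Γ(L, π ⁻¹ᵁ U)) : Prop :=
  m + 1 < B + 1 ∧ Frame π L U e ∧ ∀ (Ω : Type u) [Field Ω] [IsAlgClosed Ω] (t : Spec (CommRingCat.of Ω) ⟶ S),
    ⊤ ≤ t ⁻¹ᵁ U → ∀ hf : ⊤ ≤ (pullback.fst π t) ⁻¹ᵁ (π ⁻¹ᵁ U),
      ∃ r : pullback π t ⟶ CohB1.ProjSpace m (ULift.{u} ℤ),
        GivenBy r ((Scheme.Modules.pullback (pullback.fst π t)).obj L) (fun l => ps (pullback.fst π t) (e l) hf) ∧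
          IsClosedImmersion (liftP r (pullback.snd π t)) ∧ CutOut D (liftP r (pullback.snd π t))

/-- **LOC** charts exist for relatively very ample modules with vanishing `H^1` of the fibres. -/
def Loc : Prop :=
  ∀ (S X : Scheme.{u}) [IsNoetherian S] (π : X ⟶ S) [IsProper π] [LocallyOfFinitePresentation π] [Flat π]
    [Surjective π] (L : X.Modules), PicF.IsInvertible L → (∀ s : S, Subsingleton (CohIII.fiberH π L s 1)) →
    (∀ s : S, ∃ V : S.Opens, s ∈ V ∧ IsAffineOpen V ∧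
      RelAmple.IsRelVeryAmplePn (π ∣_ V) (L.restrict (π ⁻¹ᵁ V).ι)) →
    ∃ B D₀ : ℕ, ∀ D : ℕ, D₀ ≤ D → ∀ s : S, ∃ (U : S.Opens) (m : ℕ) (e : Fin (m + 1) → Γ(L, π ⁻¹ᵁ U)),
      s ∈ U ∧ HasChart π L D B U e

end K652.QPChart
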