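import Mathlib.LinearAlgebra.Matrix.Adjugate
import Mathlib.LinearAlgebra.Matrix.NonsingularInverse
import Mathlib.LinearAlgebra.Matrix.Rank
import Mathlib.LinearAlgebra.Dimension.StrongRankCondition
import Mathlib.Data.Fintype.Card
import Mathlib.Data.Fintype.BigOperators
import Mathlib.Data.Fintype.Sigma

/-!
# Matrices and the vector of their maximal minors

* `minor A κ` : the determinant of the rows `κ` of `A`;
* `exists_eq_mul` : a matrix is determined by its minors up to invertible matrices;
* `exists_minor_ne_zero` : an injective matrix over a field has a nonzero minor;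
* `pv A` : the vector of minors, padded by zeros to an index set that allows all sizes `≤ B`.
-/

set_option autoImplicit false

namespace K652.QPLin

open Matrix

variable {R : Type*} [CommRing R] {J : Type*} {h : ℕ}

/-- The minor of `A` with rows `κ`. -/
def minor (A : Matrix J (Fin h) R) (κ : Fin h → J) : R := (A.submatrix κ id).det

theorem minor_mul (A : Matrix J (Fin h) R) (g : Matrix (Fin h) (Fin h) R) (κ : Fin h → J) :
    minor (A * g) κ = minor A κ * g.det := by
  rw [minor, minor, ← det_mul]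
  congr 1

theorem map_minor {R' : Type*} [CommRing R'] (φ : R →+* R') (A : Matrix J (Fin h) R) (κ : Fin h → J) :
    minor (A.map φ) κ = φ (minor A κ) := by
  rw [minor, minor, RingHom.map_det]
  rfl

/-- Cramer's rule. -/
theorem row_vecMul_adjugate (A : Matrix J (Fin h) R) (κ : Fin h → J) (a : J) :
    A a ᵥ* (A.submatrix κ id).adjugate = fun l => minor A (Function.update κ l a) := by
  have h1 : A a ᵥ* (A.submatrix κ id).adjugate = ((A.submatrix κ id)ᵀ).cramer (A a) := by
    rw [cramer_eq_adjugate_mulVec, ← adjugate_transpose, mulVec_transpose]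
  rw [h1]
  funext l
  rw [cramer_transpose_apply, minor]
  congr 1
  ext i j
  by_cases hi : i = l
  · subst hi
    simp
  · rw [updateRow_ne hi]
    simp [Function.update_of_ne hi]

/-- A matrix is determined by its minors, up to an invertible matrix. -/
theorem exists_eq_mul (A B : Matrix J (Fin h) R) (κ : Fin h → J) (hκ : IsUnit (minor A κ)) (c : R)
    (hc : IsUnit c) (hAB : ∀ κ', minor B κ' = c * minor A κ') :
    ∃ g g' : Matrix (Fin h) (Fin h) R, g * g' = 1 ∧ g' * g = 1 ∧ A = B * g := by
  classical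
  have hB : IsUnit (minor B κ) := by rw [hAB]; exact hc.mul hκ
  let A₀ := A.submatrix κ id
  let B₀ := B.submatrix κ id
  have hA₀ : IsUnit A₀.det := hκ
  have hB₀ : IsUnit B₀.det := hB
  -- the rows in terms of the chosen rows
  have key : A * A₀⁻¹ = B * B₀⁻¹ := by
    ext a l
    have h1 : ∀ (C : Matrix J (Fin h) R), IsUnit (minor C κ) →
        minor C κ * (C * (C.submatrix κ id)⁻¹) a l = minor C (Function.update κ l a) := by
      intro C hC
      have h2 := congrFun (row_vecMul_adjugate C κ a) l
      have h3 : (C * (C.submatrix κ id).adjugate) a l = minor C (Function.update κ l a) := by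
        rw [← h2]
        rfl
      rw [Matrix.inv_def, Matrix.mul_smul, Matrix.smul_apply, smul_eq_mul, h3, ← mul_assoc]
      have h4 : minor C κ * Ring.inverse (C.submatrix κ id).det = 1 := Ring.mul_inverse_cancel _ hC
      rw [h4, one_mul]
    have h2 := h1 A hκ
    have h3 := h1 B hB
    rw [hAB κ, hAB, ← h2, mul_assoc] at h3
    exact (hκ.mul_left_cancel (hc.mul_left_cancel h3)).symm
  refine ⟨B₀⁻¹ * A₀, A₀⁻¹ * B₀, ?_, ?_, ?_⟩
  · rw [Matrix.mul_assoc, Matrix.mul_nonsing_inv_cancel_left _ _ hA₀, Matrix.nonsing_inv_mul _ hB₀]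
  · rw [Matrix.mul_assoc, Matrix.mul_nonsing_inv_cancel_left _ _ hB₀, Matrix.nonsing_inv_mul _ hA₀]
  · rw [← Matrix.mul_assoc, ← key, Matrix.mul_assoc, Matrix.nonsing_inv_mul _ hA₀, Matrix.mul_one]

/-- An injective matrix over a field has a nonzero maximal minor. -/
theorem exists_minor_ne_zero {K : Type*} [Field K] (A : Matrix J (Fin h) K)
    (hA : ∀ v : Fin h → K, A *ᵥ v = 0 → v = 0) : ∃ κ : Fin h → J, minor A κ ≠ 0 := by
  classical
  -- the rows span
  have hspan : Submodule.span K (Set.range fun a : J => (A a : Fin h → K)) = ⊤ := by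
    by_contra hne
    obtain ⟨f, hf, hf'⟩ := Submodule.exists_le_ker_of_lt_top _ (lt_top_iff_ne_top.2 hne)
    have hv : ∀ w : Fin h → K, f w = w ⬝ᵥ (fun i => f (Pi.single i 1)) := by
      intro w
      conv_lhs => rw [pi_eq_sum_univ' w]
      rw [map_sum]
      simp [dotProduct]
    have h1 : A *ᵥ (fun i => f (Pi.single i 1)) = 0 := by
      funext a
      have h2 : (A a : Fin h → K) ∈ LinearMap.ker f := hf' (Submodule.subset_span ⟨a, rfl⟩)
      rw [LinearMap.mem_ker, hv] at h2
      exact h2
    have h2 := hA _ h1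
    apply hf
    refine LinearMap.ext fun w => ?_
    rw [hv, h2]
    simp
  obtain ⟨f, hf, hf2, hf3⟩ :=
    Submodule.exists_fun_fin_finrank_span_eq K (Set.range fun a : J => (A a : Fin h → K))
  have hr : Module.finrank K (Submodule.span K (Set.range fun a : J => (A a : Fin h → K))) = h := by
    rw [hspan, finrank_top, Module.finrank_fin_fun]
  choose κ hκ using hf
  let e : Fin h ≃ Fin (Module.finrank K (Submodule.span K (Set.range fun a : J => (A a : Fin h → K)))) :=
    finCongr hr.symm
  refine ⟨κ ∘ e, ?_⟩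
  have h1 : LinearIndependent K (A.submatrix (κ ∘ e) id).row := by
    have h2 : (A.submatrix (κ ∘ e) id).row = f ∘ e := by
      funext i
      exact hκ (e i)
    rw [h2]
    exact hf3.comp _ e.injective
  rw [linearIndependent_rows_iff_isUnit, isUnit_iff_isUnit_det] at h1
  exact h1.ne_zero

/-- A matrix with a right inverse and a left inverse is square. -/
theorem size_eq [Nontrivial R] {h h' : ℕ} (g : Matrix (Fin h) (Fin h') R) (g' : Matrix (Fin h') (Fin h) R)
    (h1 : g * g' = 1) (h2 : g' * g = 1) : h = h' := by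
  have e : (Fin h' → R) ≃ₗ[R] (Fin h → R) :=
    { g.mulVecLin with
      invFun := g'.mulVecLin
      left_inv := fun v => by
        change g' *ᵥ (g *ᵥ v) = v
        rw [mulVec_mulVec, h2, one_mulVec]
      right_inv := fun v => by
        change g *ᵥ (g' *ᵥ v) = v
        rw [mulVec_mulVec, h1, one_mulVec] }
  have := e.symm.finrank_eq
  rwa [Module.finrank_fin_fun, Module.finrank_fin_fun] at this

section pad

/-- The index set for vectors of minors of size `≤ B`. -/
abbrev Idx (J : Type*) (B : ℕ) : Type _ := Σ s : Fin (B + 1), (Fin s → J)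

/-- The padded vector of minors. -/
def pv (B : ℕ) (A : Matrix J (Fin h) R) : Idx J B → R := fun κ =>
  if e : h = κ.1 then minor A (fun l => κ.2 (Fin.cast e l)) else 0

theorem pv_self {B : ℕ} (hB : h < B + 1) (A : Matrix J (Fin h) R) (κ : Fin h → J) :
    pv B A ⟨⟨h, hB⟩, κ⟩ = minor A κ := by
  rw [pv, dif_pos rfl]
  rfl

theorem pv_ne {B : ℕ} (A : Matrix J (Fin h) R) (κ : Idx J B) (e : ¬ h = κ.1) : pv B A κ = 0 := by
  rw [pv, dif_neg e]

theorem map_pv {R' : Type*} [CommRing R'] (B : ℕ) (φ : R →+* R') (A : Matrix J (Fin h) R) (κ : Idx J B) :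
    pv B (A.map φ) κ = φ (pv B A κ) := by
  rw [pv, pv]
  split_ifs with e
  · exact map_minor φ A _
  · rw [map_zero]

theorem pv_mul (B : ℕ) (A : Matrix J (Fin h) R) (g : Matrix (Fin h) (Fin h) R) (κ : Idx J B) :
    pv B (A * g) κ = g.det * pv B A κ := by
  rw [pv, pv]
  split_ifs with e
  · rw [minor_mul, mul_comm]
  · rw [mul_zero]

/-- Proportional vectors of minors. -/
theorem exists_eq_mul_of_pv [Nontrivial R] {h h' : ℕ} (B : ℕ) (hB : h < B + 1) (A : Matrix J (Fin h) R)
    (A' : Matrix J (Fin h') R) (hA : ∃ κ, IsUnit (minor A κ)) (c : R) (hc : IsUnit c)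
    (hAA : ∀ κ, pv B A' κ = c * pv B A κ) :
    ∃ (e : h = h') (g g' : Matrix (Fin h) (Fin h) R), g * g' = 1 ∧ g' * g = 1 ∧
      A = (A'.submatrix id (Fin.cast e)) * g := by
  obtain ⟨κ, hκ⟩ := hA
  have e : h = h' := by
    by_contra hne
    have h1 := hAA ⟨⟨h, hB⟩, κ⟩
    rw [pv_self hB, pv_ne A' _ (fun h2 => hne h2.symm)] at h1
    exact (hc.mul hκ).ne_zero h1.symm
  subst e
  obtain ⟨g, g', h1, h2, h3⟩ := exists_eq_mul A A' κ hκ c hc fun κ' => by
    have h4 := hAA ⟨⟨h, hB⟩, κ'⟩
    rwa [pv_self hB, pv_self hB] at h4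
  exact ⟨rfl, g, g', h1, h2, by simpa using h3⟩

/-- An injective matrix over a ring that is a field has an invertible maximal minor. -/
theorem exists_isUnit_minor (hR : IsField R) (A : Matrix J (Fin h) R)
    (hA : ∀ v : Fin h → R, A *ᵥ v = 0 → v = 0) : ∃ κ : Fin h → J, IsUnit (minor A κ) := by
  letI := hR.toField
  obtain ⟨κ, hκ⟩ := exists_minor_ne_zero A hA
  exact ⟨κ, isUnit_iff_ne_zero.2 hκ⟩

end pad

end K652.QPLin
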