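import Groth.Agent.AgPol.K652.QPRf
import Groth.Agent.AgPol.K652.QPLin

/-!
# Matrices of values of a frame at a family of points

`π : X ⟶ S`, `L` on `X`, `z a : W ⟶ X` points over `p : W ⟶ S` with generators `ε a` of `(z a)^* L`.

* `IsVal hz ε U e A` : `A` is the matrix of values of the sections `e` over `π⁻¹ U` at the points `z a`;
* `overlap` : the vectors of maximal minors of two frames differ by a unit;
* `hasVal` : values in the fibre over a point of `W`;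
* `exists_isUnit_minor` : some maximal minor is invertible at a geometric point where the points `z a` separate sections.
-/

set_option autoImplicit false
universe u

open AlgebraicGeometry CategoryTheory CategoryTheory.Limits TopologicalSpace Matrix

namespace K652.QPVal

open Groth.Agent.Fdesc.LocGen K652.QPRf K652.QPLin

variable {S X W T Y : Scheme.{u}} {π : X ⟶ S} {L : X.Modules} {J : Type*} {p : W ⟶ S} {z : J → (W ⟶ X)}

section val

variable (hz : ∀ a, z a ≫ π = p) (ε : ∀ a, Γ((Scheme.Modules.pullback (z a)).obj L, ⊤))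

include hz in
theorem le_pre (a : J) (U : S.Opens) : p ⁻¹ᵁ U ≤ (z a) ⁻¹ᵁ (π ⁻¹ᵁ U) := by
  rw [← hz a]
  exact le_rfl

/-- `A` is the matrix of values of the sections `e` at the points `z a`, in terms of the generators `ε a`. -/
def IsVal (U : S.Opens) {h : ℕ} (e : Fin h → Γ(L, π ⁻¹ᵁ U)) (A : Matrix J (Fin h) Γ(W, p ⁻¹ᵁ U)) : Prop :=
  ∀ a l, res _ (le_pre hz a U) (pullSec (z a) (e l)) = A a l • res _ le_top (ε a)

variable {hz ε}

theorem exists_isVal (hε : ∀ a, IsGen (ε a)) (U : S.Opens) {h : ℕ} (e : Fin h → Γ(L, π ⁻¹ᵁ U)) :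
    ∃ A, IsVal hz ε U e A := by
  choose A hA using fun a l => ((hε a).res (le_top : p ⁻¹ᵁ U ≤ ⊤)).exists_eq
    (res _ (le_pre hz a U) (pullSec (z a) (e l)))
  exact ⟨A, hA⟩

theorem IsVal.uniq (hε : ∀ a, IsGen (ε a)) {U : S.Opens} {h : ℕ} {e : Fin h → Γ(L, π ⁻¹ᵁ U)}
    {A A' : Matrix J (Fin h) Γ(W, p ⁻¹ᵁ U)} (hA : IsVal hz ε U e A) (hA' : IsVal hz ε U e A') : A = A' := by
  ext a l
  exact ((hε a).res (le_top : p ⁻¹ᵁ U ≤ ⊤)).ext ((hA a l).symm.trans (hA' a l))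

theorem IsVal.res {U : S.Opens} {h : ℕ} {e : Fin h → Γ(L, π ⁻¹ᵁ U)} {A : Matrix J (Fin h) Γ(W, p ⁻¹ᵁ U)}
    (hA : IsVal hz ε U e A) {V : S.Opens} (hVU : V ≤ U) :
    IsVal hz ε V (fun l => Groth.Agent.Fdesc.LocGen.res L (π.preimage_mono hVU) (e l))
      (A.map (ores (p.preimage_mono hVU))) := by
  intro a l
  have h1 := congrArg (Groth.Agent.Fdesc.LocGen.res _ (p.preimage_mono hVU)) (hA a l)
  rw [res_smul, res_res, res_res] at h1
  rw [← res_pullSec, res_res]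
  exact h1

theorem IsVal.comb {U : S.Opens} {h h' : ℕ} {e : Fin h → Γ(L, π ⁻¹ᵁ U)} {A : Matrix J (Fin h) Γ(W, p ⁻¹ᵁ U)}
    (hA : IsVal hz ε U e A) {e' : Fin h' → Γ(L, π ⁻¹ᵁ U)} (g : Matrix (Fin h) (Fin h') Γ(S, U))
    (he : ∀ l, e' l = ∑ k, (π.app U (g k l)) • e k) : IsVal hz ε U e' (A * g.map (p.app U)) := by
  intro a l
  have h1 : ∀ c : Γ(S, U), ores (le_pre hz a U) ((z a).app (π ⁻¹ᵁ U) (π.app U c)) = p.app U c := by
    intro c
    have e1 : ∀ (q : W ⟶ S) (hq : z a ≫ π = q) (hle : q ⁻¹ᵁ U ≤ (z a) ⁻¹ᵁ (π ⁻¹ᵁ U)),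
        ores hle ((z a).app (π ⁻¹ᵁ U) (π.app U c)) = q.app U c := by
      rintro _ rfl hle
      rw [Scheme.Hom.comp_app]
      exact ores_refl _
    exact e1 p (hz a) _
  let P : Γ(L, π ⁻¹ᵁ U) →+ Γ((Scheme.Modules.pullback (z a)).obj L, p ⁻¹ᵁ U) :=
    (Groth.Agent.Fdesc.LocGen.res _ (le_pre hz a U)).comp
      (((Scheme.Modules.pullbackPushforwardAdjunction (z a)).unit.app L).app (π ⁻¹ᵁ U)).hom
  have hP : ∀ (c : Γ(S, U)) (s : Γ(L, π ⁻¹ᵁ U)), P ((π.app U c) • s) = (p.app U c) • P s := by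
    intro c s
    change Groth.Agent.Fdesc.LocGen.res _ (le_pre hz a U) (pullSec (z a) ((π.app U c) • s)) = _
    rw [pullSec_smul, res_smul, h1]
    rfl
  have h2 : P (e' l) = ∑ k, (p.app U (g k l)) • P (e k) := by
    rw [he l, map_sum]
    exact Finset.sum_congr rfl fun k _ => hP _ _
  have h3 : ∀ k, P (e k) = A a k • Groth.Agent.Fdesc.LocGen.res _ le_top (ε a) := fun k => hA a k
  change P (e' l) = _
  rw [h2, Matrix.mul_apply, Finset.sum_smul]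
  refine Finset.sum_congr rfl fun k _ => ?_
  rw [h3 k, smul_smul, mul_comm]
  rfl

/-- Uniqueness of coordinates over an affine open. -/
theorem coords_ext {F : X.Modules} {U : S.Opens} {h : ℕ} {e : Fin h → Γ(F, π ⁻¹ᵁ U)}
    (he : Frame π F U e) (hU : IsAffineOpen U) {c c' : Fin h → Γ(S, U)}
    (hc : ∑ l, (π.app U (c l)) • e l = ∑ l, (π.app U (c' l)) • e l) : c = c' := by
  have hsq : IsPullback (π ⁻¹ᵁ U).ι (π ∣_ U) π U.ι := (isPullback_morphismRestrict π U).flip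
  have : IsAffine (U : Scheme.{u}) := hU
  obtain ⟨d, -, hd⟩ := he (π ⁻¹ᵁ U).ι (π ∣_ U) U.ι hsq (le_preimage_ι U) (le_preimage_ι _)
    (ps (π ⁻¹ᵁ U).ι (∑ l, (π.app U (c l)) • e l) (le_preimage_ι _))
  have key : ∀ b : Fin h → Γ(S, U), ps (π ⁻¹ᵁ U).ι (∑ l, (π.app U (b l)) • e l) (le_preimage_ι _) =
      ∑ l, ((π ∣_ U).appTop (rf U.ι (le_preimage_ι U) (b l))) • ps (π ⁻¹ᵁ U).ι (e l) (le_preimage_ι _) := by
    intro b
    rw [ps_sum_smul]
    refine Finset.sum_congr rfl fun l _ => ?_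
    congr 1
    rw [rf_comp (π ∣_ U) U.ι (le_preimage_ι U) (by rw [← hsq.w]; exact le_preimage_ι (π ⁻¹ᵁ U)),
      rf_app (π ⁻¹ᵁ U).ι π (le_preimage_ι _) (le_preimage_ι _)]
    exact rf_congr hsq.w _ _ _
  have h1 := hd (fun l => rf U.ι (le_preimage_ι U) (c l)) (key c)
  have h2 := hd (fun l => rf U.ι (le_preimage_ι U) (c' l)) (by rw [hc]; exact key c')
  funext l
  exact (rf_ι_bijective U).1 (congrFun (h1.trans h2.symm) l)

/-- Two frames over an affine open differ by an invertible matrix. -/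
theorem exists_transition {F : X.Modules} {V : S.Opens} {h h' : ℕ} {e : Fin h → Γ(F, π ⁻¹ᵁ V)}
    {e' : Fin h' → Γ(F, π ⁻¹ᵁ V)} (he : Frame π F V e) (he' : Frame π F V e') (hV : IsAffineOpen V) :
    ∃ (g : Matrix (Fin h) (Fin h') Γ(S, V)) (g' : Matrix (Fin h') (Fin h) Γ(S, V)), g * g' = 1 ∧ g' * g = 1 ∧
      ∀ l, e' l = ∑ k, (π.app V (g k l)) • e k := by
  choose g hg using fun l => he.exists_coords hV (e' l)
  choose g' hg' using fun l => he'.exists_coords hV (e l)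
  have key : ∀ {a b : ℕ} {x : Fin a → Γ(F, π ⁻¹ᵁ V)} {y : Fin b → Γ(F, π ⁻¹ᵁ V)} (hx : Frame π F V x)
      {m : Fin b → Fin a → Γ(S, V)} {m' : Fin a → Fin b → Γ(S, V)}
      (hm : ∀ l, y l = ∑ k, (π.app V (m l k)) • x k) (hm' : ∀ l, x l = ∑ k, (π.app V (m' l k)) • y k),
      (Matrix.of fun k l => m l k) * (Matrix.of fun k l => m' l k) = 1 := by
    intro a b x y hx m m' hm hm'
    ext j l
    have h1 : ∑ i, (π.app V (((Matrix.of fun k l => m l k) * (Matrix.of fun k l => m' l k)) i l)) • x i =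
        ∑ i, (π.app V ((1 : Matrix (Fin a) (Fin a) Γ(S, V)) i l)) • x i := by
      have h2 : ∑ i, (π.app V ((1 : Matrix (Fin a) (Fin a) Γ(S, V)) i l)) • x i = x l := by
        rw [Finset.sum_eq_single l]
        · rw [Matrix.one_apply_eq, map_one, one_smul]
        · intro i _ hi
          rw [Matrix.one_apply_ne hi, map_zero, zero_smul]
        · intro h3
          exact absurd (Finset.mem_univ l) h3
      rw [h2]
      conv_rhs => rw [hm' l]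
      simp_rw [hm, Finset.smul_sum, smul_smul, Matrix.mul_apply, map_sum, Finset.sum_smul, Matrix.of_apply, map_mul]
      rw [Finset.sum_comm]
      refine Finset.sum_congr rfl fun k _ => Finset.sum_congr rfl fun i _ => ?_
      rw [mul_comm]
    exact congrFun (coords_ext (c := fun i => ((Matrix.of fun k l => m l k) * (Matrix.of fun k l => m' l k)) i l)
      (c' := fun i => (1 : Matrix (Fin a) (Fin a) Γ(S, V)) i l) hx hV h1) j
  exact ⟨Matrix.of fun k l => g l k, Matrix.of fun k l => g' l k, key he hg hg', key he' hg' hg, hg⟩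

/-- The vectors of maximal minors of two frames differ by a unit. -/
theorem overlap (hε : ∀ a, IsGen (ε a)) {U U' V : S.Opens} {h h' : ℕ} {e : Fin h → Γ(L, π ⁻¹ᵁ U)}
    {e' : Fin h' → Γ(L, π ⁻¹ᵁ U')} (he : Frame π L U e) (he' : Frame π L U' e')
    {A : Matrix J (Fin h) Γ(W, p ⁻¹ᵁ U)} {A' : Matrix J (Fin h') Γ(W, p ⁻¹ᵁ U')} (hA : IsVal hz ε U e A)
    (hA' : IsVal hz ε U' e' A') (hU : V ≤ U) (hU' : V ≤ U') (hV : IsAffineOpen V) (hne : (V : Set S).Nonempty)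
    (B : ℕ) : ∃ c : Γ(W, p ⁻¹ᵁ V), IsUnit c ∧ ∀ κ : Idx J B, ores (p.preimage_mono hU') (pv B A' κ) =
      c * ores (p.preimage_mono hU) (pv B A κ) := by
  obtain ⟨g, g', h1, h2, h3⟩ := exists_transition (he.res hU) (he'.res hU') hV
  have hnt : Nontrivial Γ(S, V) := by
    obtain ⟨x, hx⟩ := hne
    have : Nonempty V := ⟨⟨x, hx⟩⟩
    infer_instance
  have hh : h = h' := size_eq g g' h1 h2
  subst hh
  have h4 := (hA.res hU).comb g h3
  have h5 := h4.uniq hε (hA'.res hU')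
  have hd : IsUnit ((g.map (p.app V)).det) := by
    have h6 : IsUnit g.det := (Matrix.isUnit_iff_isUnit_det g).1 ⟨⟨g, g', h1, h2⟩, rfl⟩
    have h7 := h6.map (p.app V).hom
    rw [RingHom.map_det] at h7
    exact h7
  refine ⟨_, hd, fun κ => ?_⟩
  rw [← map_pv, ← map_pv, ← h5, pv_mul]

end val

/-- The sections `e` have the values `c` at `F`, in terms of a generator. -/
def HasVal (F : T ⟶ X) {U : X.Opens} {h : ℕ} (e : Fin h → Γ(L, U)) (hF : ⊤ ≤ F ⁻¹ᵁ U) (c : Fin h → Γ(T, ⊤)) :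
    Prop := ∃ η : Γ((Scheme.Modules.pullback F).obj L, ⊤), IsGen η ∧ ∀ l, ps F (e l) hF = c l • η

theorem HasVal.congr {F F' : T ⟶ X} (hFF : F = F') {U : X.Opens} {h : ℕ} {e : Fin h → Γ(L, U)}
    {hF : ⊤ ≤ F ⁻¹ᵁ U} {hF' : ⊤ ≤ F' ⁻¹ᵁ U} {c : Fin h → Γ(T, ⊤)} (hv : HasVal F e hF c) : HasVal F' e hF' c := by
  subst hFF
  exact hv

theorem HasVal.comp {F : Y ⟶ X} {x : T ⟶ Y} {U : X.Opens} {h : ℕ} {e : Fin h → Γ(L, U)} {hF : ⊤ ≤ F ⁻¹ᵁ U}
    {hF' : ⊤ ≤ (x ≫ F) ⁻¹ᵁ U} {c : Fin h → Γ(T, ⊤)} (hv : HasVal (x ≫ F) e hF' c) :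
    ∃ η : Γ((Scheme.Modules.pullback x).obj ((Scheme.Modules.pullback F).obj L), ⊤), IsGen η ∧
      ∀ l, pullTop x (ps F (e l) hF) = c l • η := by
  obtain ⟨η, h1, h2⟩ := hv
  have e0 := congr(($(show (Scheme.Modules.pullbackComp x F).hom.app L ≫
    (Scheme.Modules.pullbackComp x F).inv.app L = 𝟙 _ by simp)).app ⊤)
  refine ⟨((Scheme.Modules.pullbackComp x F).inv.app L).app ⊤ η, h1.app _, fun l => ?_⟩
  have h3 := ps_comp F hF x (e l) hF'
  rw [h2 l] at h3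
  have h4 : ((Scheme.Modules.pullbackComp x F).inv.app L).app ⊤
      (((Scheme.Modules.pullbackComp x F).hom.app L).app ⊤ (pullTop x (ps F (e l) hF))) =
        pullTop x (ps F (e l) hF) := congr($e0 (pullTop x (ps F (e l) hF)))
  rw [← h4, h3]
  exact Scheme.Modules.Hom.app_smul _ _ _

/-- Values over a scheme over `W`. -/
theorem IsVal.hasVal {hz : ∀ a, z a ≫ π = p} {ε : ∀ a, Γ((Scheme.Modules.pullback (z a)).obj L, ⊤)}
    (hε : ∀ a, IsGen (ε a)) {U : S.Opens} {h : ℕ} {e : Fin h → Γ(L, π ⁻¹ᵁ U)}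
    {A : Matrix J (Fin h) Γ(W, p ⁻¹ᵁ U)} (hA : IsVal hz ε U e A) (w : T ⟶ W) (hw : ⊤ ≤ w ⁻¹ᵁ (p ⁻¹ᵁ U)) (a : J)
    (h' : ⊤ ≤ (w ≫ z a) ⁻¹ᵁ (π ⁻¹ᵁ U)) : HasVal (w ≫ z a) e h' (fun l => rf w hw (A a l)) := by
  refine ⟨((Scheme.Modules.pullbackComp w (z a)).hom.app L).app ⊤ (pullTop w (ε a)),
    ((hε a).pullTop w).app _, fun l => ?_⟩
  have h1 := congrArg (fun s => ps w s hw) (hA a l)
  simp only [ps_smul, ps_eq_pullTop_res] at h1
  rw [ps_res w (hw.trans (w.preimage_mono (le_pre hz a U))) (le_pre hz a U) hw] at h1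
  have h'' : ⊤ ≤ w ⁻¹ᵁ ((z a) ⁻¹ᵁ (π ⁻¹ᵁ U)) := h'
  have h2 : ((Scheme.Modules.pullbackComp w (z a)).hom.app L).app ⊤ (ps w (pullSec (z a) (e l)) h'') =
      ps (w ≫ z a) (e l) h' := by
    refine (app_res ((Scheme.Modules.pullbackComp w (z a)).hom.app L) h'' (pullSec w (pullSec (z a) (e l)))).trans ?_
    exact congrArg (Groth.Agent.Fdesc.LocGen.res _ h'') (pullSec_comp' w (z a) (e l))
  rw [← h2]
  refine (congrArg (((Scheme.Modules.pullbackComp w (z a)).hom.app L).app ⊤) h1).trans ?_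
  exact Scheme.Modules.Hom.app_smul _ _ _

/-- Values in the fibre. -/
theorem hasVal {hz : ∀ a, z a ≫ π = p} {ε : ∀ a, Γ((Scheme.Modules.pullback (z a)).obj L, ⊤)}
    (hε : ∀ a, IsGen (ε a)) {U : S.Opens} {h : ℕ} {e : Fin h → Γ(L, π ⁻¹ᵁ U)}
    {A : Matrix J (Fin h) Γ(W, p ⁻¹ᵁ U)} (hA : IsVal hz ε U e A) (w : T ⟶ W) (hw : ⊤ ≤ w ⁻¹ᵁ (p ⁻¹ᵁ U)) (a : J)
    (f : Y ⟶ X) (x : T ⟶ Y) (hx : x ≫ f = w ≫ z a) (hf : ⊤ ≤ f ⁻¹ᵁ (π ⁻¹ᵁ U)) :
    ∃ η : Γ((Scheme.Modules.pullback x).obj ((Scheme.Modules.pullback f).obj L), ⊤), IsGen η ∧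
      ∀ l, pullTop x (ps f (e l) hf) = rf w hw (A a l) • η := by
  have h1 : ⊤ ≤ (w ≫ z a) ⁻¹ᵁ (π ⁻¹ᵁ U) := by
    rw [← hx]
    exact x.preimage_mono hf
  have h2 : ⊤ ≤ (x ≫ f) ⁻¹ᵁ (π ⁻¹ᵁ U) := by
    rw [hx]
    exact h1
  have h3 : HasVal (x ≫ f) e h2 (fun l => rf w hw (A a l)) := (hA.hasVal hε w hw a h1).congr hx.symm
  obtain ⟨η, h4, h5⟩ := HasVal.comp (F := f) (x := x) (hF := hf) h3
  exact ⟨η, h4, h5⟩

/-- At a point at which the `x a` separate sections some maximal minor is invertible. -/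
theorem exists_isUnit_minor {hz : ∀ a, z a ≫ π = p} {ε : ∀ a, Γ((Scheme.Modules.pullback (z a)).obj L, ⊤)}
    (hε : ∀ a, IsGen (ε a)) {U : S.Opens} {h : ℕ} {e : Fin h → Γ(L, π ⁻¹ᵁ U)}
    {A : Matrix J (Fin h) Γ(W, p ⁻¹ᵁ U)} (hA : IsVal hz ε U e A) (w : T ⟶ W) (hw : ⊤ ≤ w ⁻¹ᵁ (p ⁻¹ᵁ U))
    (f : Y ⟶ X) (q : Y ⟶ T) (x : J → (T ⟶ Y)) (hx : ∀ a, x a ≫ f = w ≫ z a) (hq : ∀ a, x a ≫ q = 𝟙 T)
    (hf : ⊤ ≤ f ⁻¹ᵁ (π ⁻¹ᵁ U)) (hc : Coords q (fun l => ps f (e l) hf)) (hT : IsField Γ(T, ⊤))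
    (hinj : ∀ s : Γ((Scheme.Modules.pullback f).obj L, ⊤), (∀ a, pullTop (x a) s = 0) → s = 0) :
    ∃ κ : Fin h → J, IsUnit (minor (A.map (rf w hw)) κ) := by
  refine QPLin.exists_isUnit_minor hT _ fun v hv => ?_
  choose η hη hη' using fun a => hasVal hε hA w hw a f (x a) (hx a) hf
  have h0 : ∀ b : Fin h → Γ(T, ⊤), ∀ a, pullTop (x a) (∑ l, (q.appTop (b l)) • ps f (e l) hf) =
      ((A.map (rf w hw) *ᵥ b) a) • η a := by
    intro b a
    have h1 : pullTop (x a) (∑ l, (q.appTop (b l)) • ps f (e l) hf) =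
        ∑ l, ((x a).appTop (q.appTop (b l))) • pullTop (x a) (ps f (e l) hf) := by
      have h2 := ps_sum_smul (x a) (L := (Scheme.Modules.pullback f).obj L) (U := ⊤) le_top
        (fun l => q.appTop (b l)) (fun l => ps f (e l) hf)
      simp only [ps_top] at h2
      refine h2.trans (Finset.sum_congr rfl fun l _ => ?_)
      congr 1
      exact congr($(Scheme.Hom.appLE_eq_app (x a) (U := ⊤)) (q.appTop (b l)))
    rw [h1, Matrix.mulVec, dotProduct, Finset.sum_smul]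
    refine Finset.sum_congr rfl fun l _ => ?_
    have h3 : (x a).appTop (q.appTop (b l)) = b l := by
      have e1 : q.appTop ≫ (x a).appTop = 𝟙 _ := by
        rw [← Scheme.Hom.comp_appTop, hq a, Scheme.Hom.id_appTop]
      exact congr($e1 (b l))
    rw [h3, hη' a l, smul_smul, mul_comm]
    rfl
  have h1 : (∑ l, (q.appTop (v l)) • ps f (e l) hf) = 0 := by
    refine hinj _ fun a => ?_
    rw [h0 v a, hv, Pi.zero_apply, zero_smul]
  obtain ⟨d, -, hd⟩ := hc 0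
  have h2 := hd v h1.symm
  have h3 := hd 0 (by simp)
  exact h2.trans h3.symm

end K652.QPVal
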