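import Groth.Agent.AgPol.K652.QPStep
import Groth.Agent.AgPol.K652.QPVal
import Groth.Agent.AgPol.K652.QPChart

/-!
# The morphism to projective space separating the fibres

`π : X ⟶ S`, `L` on `X`, points `z a : W ⟶ X` over `p : W ⟶ S` along which `L` is trivial and which separate, in
every geometric fibre, the sections of `L` and of `L ^ D`.  `gen` : there is `γ : W ⟶ P^R` such that geometric
points of `W` with the same image have isomorphic fibres, compatibly with the points and `L`.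
-/

set_option autoImplicit false
universe u

open AlgebraicGeometry CategoryTheory CategoryTheory.Limits TopologicalSpace Matrix

namespace K652.QPGen

open Groth.Agent.Fdesc.LocGen Groth.Agent.Grpsch.PicGrp K390.PnSec K652.QPRf K652.QPPt K652.QPNodes K652.QPVal
  K652.QPStep K652.QPLin K652.QPChart

variable {S X W T : Scheme.{u}}

theorem isField_Γ (Ω : Type u) [Field Ω] : IsField Γ(Spec (CommRingCat.of Ω), ⊤) :=
  MulEquiv.isField (Field.toIsField Ω) (Scheme.ΓSpecIso (CommRingCat.of Ω)).commRingCatIsoToRingEquiv.toMulEquiv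

theorem exists_gen (z : W ⟶ X) {L : X.Modules} (hL : PicF.IsInvertible L) (h : pull z (mk L hL) = 1) :
    ∃ ε : Γ((Scheme.Modules.pullback z).obj L, ⊤), IsGen ε := by
  rw [pull_mk, mk_eq_one_iff] at h
  obtain ⟨e⟩ := h
  exact ⟨e.inv.app ⊤ (one ⊤), (isGen_one ⊤).app _⟩

/-- The section of the fibre given by a point. -/
noncomputable def xp (π : X ⟶ S) {p : W ⟶ S} (w : T ⟶ W) (z : W ⟶ X) (hz : z ≫ π = p) : T ⟶ pullback π (w ≫ p) :=
  pullback.lift (w ≫ z) (𝟙 T) (by rw [Category.assoc, hz, Category.id_comp])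

section xp

variable (π : X ⟶ S) {p : W ⟶ S} (w : T ⟶ W) (z : W ⟶ X) (hz : z ≫ π = p)

@[reassoc]
theorem xp_fst : xp π w z hz ≫ pullback.fst π (w ≫ p) = w ≫ z := pullback.lift_fst _ _ _

@[reassoc]
theorem xp_snd : xp π w z hz ≫ pullback.snd π (w ≫ p) = 𝟙 T := pullback.lift_snd _ _ _

end xp

/-- The points `z a` separate the sections of the `j`-th power of `L` in every geometric fibre. -/
def Sep (π : X ⟶ S) (L : X.Modules) (hL : PicF.IsInvertible L) {J : Type} {p : W ⟶ S} (z : J → (W ⟶ X))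
    (hz : ∀ a, z a ≫ π = p) (j : ℕ) : Prop :=
  ∀ (Ω : Type u) [Field Ω] [IsAlgClosed Ω] (w : Spec (CommRingCat.of Ω) ⟶ W) (F : (pullback π (w ≫ p)).Modules)
    (hF : PicF.IsInvertible F), mk F hF = pull (pullback.fst π (w ≫ p)) (mk L hL) ^ j → ∀ s : Γ(F, ⊤),
      (∀ a, pullTop (xp π w (z a) (hz a)) s = 0) → s = 0

section gen

variable {π : X ⟶ S} {L : X.Modules} {hL : PicF.IsInvertible L} {J : Type} {p : W ⟶ S} {z : J → (W ⟶ X)}
  {hz : ∀ a, z a ≫ π = p} {ε : ∀ a, Γ((Scheme.Modules.pullback (z a)).obj L, ⊤)}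

/-- Some maximal minor is invertible at every geometric point. -/
theorem exists_minor (hε : ∀ a, IsGen (ε a)) (h1 : Sep π L hL z hz 1) {U : S.Opens} {h : ℕ}
    {e : Fin h → Γ(L, π ⁻¹ᵁ U)} (he : Frame π L U e) {A : Matrix J (Fin h) Γ(W, p ⁻¹ᵁ U)}
    (hA : IsVal hz ε U e A) (Ω : Type u) [Field Ω] [IsAlgClosed Ω] (w : Spec (CommRingCat.of Ω) ⟶ W)
    (hw : ⊤ ≤ w ⁻¹ᵁ (p ⁻¹ᵁ U)) : ∃ κ : Fin h → J, IsUnit (minor (A.map (rf w hw)) κ) := by
  have hf : ⊤ ≤ (pullback.fst π (w ≫ p)) ⁻¹ᵁ (π ⁻¹ᵁ U) := by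
    intro y _
    have h2 := hw (show pullback.snd π (w ≫ p) y ∈ (⊤ : (Spec (CommRingCat.of Ω)).Opens) from trivial)
    change π (pullback.fst π (w ≫ p) y) ∈ U
    rw [← Scheme.Hom.comp_apply, pullback.condition]
    exact h2
  refine exists_isUnit_minor hε hA w hw (pullback.fst π (w ≫ p)) (pullback.snd π (w ≫ p))
    (fun a => xp π w (z a) (hz a)) (fun a => xp_fst π w (z a) (hz a)) (fun a => xp_snd π w (z a) (hz a)) hf
    (he _ _ _ (IsPullback.of_hasPullback π (w ≫ p)) hw hf) (isField_Γ Ω) fun s hs => ?_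
  exact h1 Ω w _ (isInvertible_pullback _ hL) (by rw [pow_one, pull_mk]) s hs

/-- Comparison at two points, in terms of charts of the same size. -/
theorem compare (hfib : FibStmt.{u}) (hlin : LinStmt.{u}) (hε : ∀ a, IsGen (ε a)) {D B : ℕ}
    (hD : Sep π L hL z hz D) (hred : ∀ (Ω : Type u) [Field Ω] [IsAlgClosed Ω] (t : Spec (CommRingCat.of Ω) ⟶ S),
      IsReduced (pullback π t)) {U U' : S.Opens} {m m' : ℕ}
    {e : Fin (m + 1) → Γ(L, π ⁻¹ᵁ U)} {e' : Fin (m' + 1) → Γ(L, π ⁻¹ᵁ U')} (he : HasChart π L D B U e)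
    (he' : HasChart π L D B U' e') {A : Matrix J (Fin (m + 1)) Γ(W, p ⁻¹ᵁ U)}
    {A' : Matrix J (Fin (m' + 1)) Γ(W, p ⁻¹ᵁ U')} (hA : IsVal hz ε U e A) (hA' : IsVal hz ε U' e' A')
    (Ω : Type u) [Field Ω] [IsAlgClosed Ω] (w w' : Spec (CommRingCat.of Ω) ⟶ W)
    (hw : ⊤ ≤ w ⁻¹ᵁ (p ⁻¹ᵁ U)) (hw' : ⊤ ≤ w' ⁻¹ᵁ (p ⁻¹ᵁ U')) (e0 : m + 1 = m' + 1)
    (g g' : Matrix (Fin (m + 1)) (Fin (m + 1)) Γ(Spec (CommRingCat.of Ω), ⊤)) (hg : g * g' = 1)
    (hg' : g' * g = 1) (hAg : A.map (rf w hw) = ((A'.map (rf w' hw')).submatrix id (Fin.cast e0)) * g) :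
    ∃ θ : pullback π (w ≫ p) ≅ pullback π (w' ≫ p), θ.hom ≫ pullback.snd π (w' ≫ p) = pullback.snd π (w ≫ p) ∧
      (∀ a, xp π w (z a) (hz a) ≫ θ.hom = xp π w' (z a) (hz a)) ∧
      pull θ.hom (pull (pullback.fst π (w' ≫ p)) (mk L hL)) = pull (pullback.fst π (w ≫ p)) (mk L hL) := by
  obtain rfl : m = m' := Nat.succ_injective e0
  have hfst : ∀ (v : Spec (CommRingCat.of Ω) ⟶ W) (V : S.Opens), ⊤ ≤ v ⁻¹ᵁ (p ⁻¹ᵁ V) →
      ⊤ ≤ (pullback.fst π (v ≫ p)) ⁻¹ᵁ (π ⁻¹ᵁ V) := by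
    intro v V hv y _
    have h2 := hv (show pullback.snd π (v ≫ p) y ∈ (⊤ : (Spec (CommRingCat.of Ω)).Opens) from trivial)
    change π (pullback.fst π (v ≫ p) y) ∈ V
    rw [← Scheme.Hom.comp_apply, pullback.condition]
    exact h2
  obtain ⟨r, hr, hi, hc⟩ := he.2.2 Ω (w ≫ p) hw (hfst w U hw)
  obtain ⟨r', hr', hi', hc'⟩ := he'.2.2 Ω (w' ≫ p) hw' (hfst w' U' hw')
  have i1 := hred Ω (w ≫ p)
  have i2 := hred Ω (w' ≫ p)
  have hL1 := isInvertible_pullback (pullback.fst π (w ≫ p)) hL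
  have hL2 := isInvertible_pullback (pullback.fst π (w' ≫ p)) hL
  obtain ⟨θ, h1, h2, h3⟩ := step hfib hlin (pullback.snd π (w ≫ p)) (pullback.snd π (w' ≫ p)) hL1 hL2 hr hr' hi hi'
    hc hc' (fun a => xp π w (z a) (hz a)) (fun a => xp π w' (z a) (hz a)) (fun a => xp_snd π w (z a) (hz a))
    (fun a => xp_snd π w' (z a) (hz a))
    (fun F hF h => hD Ω w F hF (by rw [h, pull_mk])) (fun F hF h => hD Ω w' F hF (by rw [h, pull_mk]))
    (A.map (rf w hw)) (A'.map (rf w' hw'))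
    (fun a => hasVal hε hA w hw a (pullback.fst π (w ≫ p)) (xp π w (z a) (hz a)) (xp_fst π w (z a) (hz a)) _)
    (fun a => hasVal hε hA' w' hw' a (pullback.fst π (w' ≫ p)) (xp π w' (z a) (hz a)) (xp_fst π w' (z a) (hz a)) _)
    g g' hg hg' (by simpa using hAg)
  refine ⟨θ, h1, h2, ?_⟩
  rw [pull_mk _ hL, pull_mk _ hL]
  exact h3

/-- **The morphism to projective space separating the fibres.** -/
theorem gen [Finite J] (hfib : FibStmt.{u}) (hlin : LinStmt.{u}) (hzL : ∀ a, pull (z a) (mk L hL) = 1) {D B : ℕ}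
    (h1 : Sep π L hL z hz 1) (hD : Sep π L hL z hz D)
    (hred : ∀ (Ω : Type u) [Field Ω] [IsAlgClosed Ω] (t : Spec (CommRingCat.of Ω) ⟶ S), IsReduced (pullback π t))
    (hch : ∀ s : S, ∃ (U : S.Opens) (m : ℕ) (e : Fin (m + 1) → Γ(L, π ⁻¹ᵁ U)), s ∈ U ∧ HasChart π L D B U e) :
    ∃ (R : ℕ) (γ : W ⟶ CohB1.ProjSpace R (ULift.{u} ℤ)), ∀ (Ω : Type u) [Field Ω] [IsAlgClosed Ω]
      (w w' : Spec (CommRingCat.of Ω) ⟶ W), w ≫ γ = w' ≫ γ →
      ∃ θ : pullback π (w ≫ p) ≅ pullback π (w' ≫ p), θ.hom ≫ pullback.snd π (w' ≫ p) = pullback.snd π (w ≫ p) ∧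
        (∀ a, xp π w (z a) (hz a) ≫ θ.hom = xp π w' (z a) (hz a)) ∧
        pull θ.hom (pull (pullback.fst π (w' ≫ p)) (mk L hL)) = pull (pullback.fst π (w ≫ p)) (mk L hL) := by
  choose ε hε using fun a => exists_gen (z a) hL (hzL a)
  choose U m e hU he using hch
  choose A hA using fun s => exists_isVal (hz := hz) hε (U s) (e s)
  have := Fintype.ofFinite J
  -- the index set
  obtain ⟨R, ⟨eqv⟩⟩ : ∃ R : ℕ, Nonempty (Idx J B ≃ Fin (R + 1)) := by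
    have h2 : 0 < Fintype.card (Idx J B) := Fintype.card_pos_iff.2 ⟨⟨0, Fin.elim0⟩⟩
    refine ⟨Fintype.card (Idx J B) - 1, ⟨(Fintype.equivFin _).trans (finCongr ?_)⟩⟩
    omega
  let V : S → W.Opens := fun s => p ⁻¹ᵁ U s
  let v : ∀ s : S, Fin (R + 1) → Γ(W, V s) := fun s l => pv B (A s) (eqv.symm l)
  have hmap : ∀ (s : S) {T : Scheme.{u}} (w : T ⟶ W) (hw : ⊤ ≤ w ⁻¹ᵁ V s) (κ : Idx J B),
      rf w hw (v s (eqv κ)) = pv B ((A s).map (rf w hw)) κ := by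
    intro s T w hw κ
    rw [map_pv]
    change rf w hw (pv B (A s) (eqv.symm (eqv κ))) = _
    rw [Equiv.symm_apply_apply]
  have hgen : ∀ s : S, ∀ x ∈ V s, ∃ l, x ∈ W.basicOpen (v s l) := by
    intro s x hx
    let Ω := AlgebraicClosure (W.residueField x)
    let w : Spec (CommRingCat.of Ω) ⟶ W :=
      Spec.map (CommRingCat.ofHom (algebraMap (W.residueField x) Ω)) ≫ W.fromSpecResidueField x
    have hwx : ∀ y, w y = x := by
      intro y
      change (W.fromSpecResidueField x) _ = x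
      exact W.fromSpecResidueField_apply x _
    have hw : ⊤ ≤ w ⁻¹ᵁ V s := fun y _ => by
      change w y ∈ V s
      rw [hwx]
      exact hx
    obtain ⟨κ, hκ⟩ := exists_minor hε h1 (he s).2.1 (hA s) Ω w hw
    refine ⟨eqv ⟨⟨m s + 1, (he s).1⟩, κ⟩, ?_⟩
    have h3 : IsUnit (rf w hw (v s (eqv ⟨⟨m s + 1, (he s).1⟩, κ⟩))) := by
      rw [hmap s w hw, pv_self (he s).1]
      exact hκ
    have h4 := (Spec (CommRingCat.of Ω)).basicOpen_of_isUnit h3
    rw [basicOpen_rf] at h4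
    obtain ⟨y⟩ : Nonempty (Spec (CommRingCat.of Ω)) := inferInstance
    have h5 : y ∈ w ⁻¹ᵁ (W.basicOpen (v s (eqv ⟨⟨m s + 1, (he s).1⟩, κ⟩))) := by
      rw [h4]
      trivial
    have h6 : w y ∈ W.basicOpen (v s (eqv ⟨⟨m s + 1, (he s).1⟩, κ⟩)) := h5
    rwa [hwx] at h6
  have hov : ∀ s s' : S, ∀ x, x ∈ V s → x ∈ V s' → ∃ (V' : W.Opens) (hi : V' ≤ V s) (hj : V' ≤ V s'), x ∈ V' ∧
      ∃ c : Γ(W, V'), IsUnit c ∧ ∀ l, ores hj (v s' l) = c * ores hi (v s l) := by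
    intro s s' x hx hx'
    obtain ⟨_, ⟨V', hV', rfl⟩, hxV', hle⟩ := S.isBasis_affineOpens.exists_subset_of_mem_open
      (show p x ∈ ((U s ⊓ U s' : S.Opens) : Set S) from ⟨hx, hx'⟩) (U s ⊓ U s').isOpen
    have hle' : V' ≤ U s ⊓ U s' := hle
    obtain ⟨c, hc, hcv⟩ := overlap hε (he s).2.1 (he s').2.1 (hA s) (hA s') (hle'.trans inf_le_left)
      (hle'.trans inf_le_right) hV' ⟨_, hxV'⟩ B
    exact ⟨p ⁻¹ᵁ V', p.preimage_mono (hle'.trans inf_le_left), p.preimage_mono (hle'.trans inf_le_right), hxV', c,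
      hc, fun l => hcv _⟩
  obtain ⟨γ, hγ⟩ := exists_glue V (fun x => ⟨p x, hU (p x)⟩) v hgen hov
  refine ⟨R, γ, fun Ω _ _ w w' hww => ?_⟩
  -- the charts at the two points
  obtain ⟨y⟩ : Nonempty (Spec (CommRingCat.of Ω)) := inferInstance
  have hall : ∀ (v : Spec (CommRingCat.of Ω) ⟶ W), ⊤ ≤ v ⁻¹ᵁ V (p (v y)) := by
    intro v y' _
    obtain rfl : y' = y := Subsingleton.elim _ _
    exact hU (p (v y'))
  have hw := hall w
  have hw' := hall w'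
  have h2 := hγ (p (w y)) w hw
  have h3 := hγ (p (w' y)) w' hw'
  rw [← hww] at h3
  obtain ⟨c, hc, hcv⟩ := h2.exists_unit h3
  have hnt : Nontrivial Γ(Spec (CommRingCat.of Ω), ⊤) := (isField_Γ Ω).nontrivial
  obtain ⟨e0, g, g', hg, hg', hAg⟩ := exists_eq_mul_of_pv B (he (p (w y))).1 ((A (p (w y))).map (rf w hw))
    ((A (p (w' y))).map (rf w' hw')) (exists_minor hε h1 (he (p (w y))).2.1 (hA (p (w y))) Ω w hw) c hc fun κ => by
      have h4 := hcv (eqv κ)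
      rw [hmap _ w hw, hmap _ w' hw'] at h4
      exact h4
  exact compare hfib hlin hε hD hred (he (p (w y))) (he (p (w' y))) (hA _) (hA _) Ω w w' hw hw' e0 g g' hg hg' hAg

end gen

end K652.QPGen
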