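import Mathlib.AlgebraicGeometry.Morphisms.QuasiFinite
import Mathlib.AlgebraicGeometry.ResidueField
import Mathlib.AlgebraicGeometry.PullbackCarrier
import Mathlib.FieldTheory.IsAlgClosed.AlgebraicClosure

/-!
# A quasi-finiteness criterion on geometric points
-/

set_option autoImplicit false
universe u

open AlgebraicGeometry CategoryTheory CategoryTheory.Limits

namespace K652.QPQf

/-- If the geometric points with the same image under `f` have the same image under a finite morphism, then `f` is
locally quasi-finite. -/
theorem locallyQuasiFinite_of_geom {W P M : Scheme.{u}} (f : W ⟶ P) [LocallyOfFiniteType f] (p : W ⟶ M) [IsFinite p]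
    (h : ∀ (Ω : Type u) [Field Ω] [IsAlgClosed Ω] (w w' : Spec (CommRingCat.of Ω) ⟶ W), w ≫ f = w' ≫ f →
      w ≫ p = w' ≫ p) : LocallyQuasiFinite f := by
  refine LocallyQuasiFinite.of_finite_preimage_singleton f fun y => ?_
  rcases (f ⁻¹' {y}).eq_empty_or_nonempty with he | ⟨x, hx⟩
  · rw [he]
    exact Set.finite_empty
  refine (p.finite_preimage_singleton (p x)).subset fun x' hx' => ?_
  have hxy : f x = f x' := by
    have h1 : f x = y := hx
    have h2 : f x' = y := hx'
    rw [h1, h2]
  obtain ⟨z, hz1, hz2⟩ := Scheme.Pullback.exists_preimage_pullback x x' hxy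
  let Ω := AlgebraicClosure ((pullback f f).residueField z)
  obtain ⟨t⟩ : Nonempty (Spec (CommRingCat.of Ω)) := inferInstance
  obtain ⟨v, hv⟩ : ∃ v : Spec (CommRingCat.of Ω) ⟶ pullback f f, v t = z :=
    ⟨Spec.map (CommRingCat.ofHom (algebraMap ((pullback f f).residueField z) Ω)) ≫
      (pullback f f).fromSpecResidueField z, (pullback f f).fromSpecResidueField_apply z _⟩
  have h1 := h Ω (v ≫ pullback.fst f f) (v ≫ pullback.snd f f) (by
    rw [Category.assoc, Category.assoc, pullback.condition])
  have h2 : (v ≫ pullback.fst f f ≫ p) t = (v ≫ pullback.snd f f ≫ p) t := by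
    rw [← Category.assoc, h1, Category.assoc]
  simp only [Scheme.Hom.comp_apply, hv, hz1, hz2] at h2
  exact h2.symm

end K652.QPQf
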