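import Groth.Agent.AgPol.K117.Nodes
import Groth.Agent.AgPol.K652.QPGen
import Groth.Agent.AgPol.K652.QPQf

/-!
# Assembly of the quasi-projectivity node
-/

set_option autoImplicit false
universe u

open CategoryTheory Limits MonoidalCategory CartesianMonoidalCategory AlgebraicGeometry
open scoped MonObj

namespace K652.QPAsm

open Groth.Agent.Fdesc.LocGen Groth.Agent.Grpsch.PicGrp K390.PnSec K652.QPRf K652.QPNodes K652.QPStep K652.QPChart
  K652.QPGen K117.Ag K732.BC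

noncomputable section

/-- **INJ** -/
def InjStmt (g d : ℕ) : Prop :=
  ∀ (S : Scheme.{u}) (A : Over S) [GrpObj A] [IsCommMonObj A], AgPol.IsAbSch A g → ∀ c : Pic A.left, IsPolCl A d c →
    ∀ (j : ℕ), 1 ≤ j → ∀ (Ω : Type u) [Field Ω] [IsAlgClosed Ω] (t : Spec (CommRingCat.of Ω) ⟶ S) (N : ℕ),
      (N : Ω) ≠ 0 → ((2 * (3 * j)) ^ g * d) ^ 2 * g.factorial < N ^ 2 →
      ∀ (F : (Red.bc t A).left.Modules) (hF : PicF.IsInvertible F),
        mk F hF = pull (pullback.fst A.hom t) (c ^ (3 * j)) →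
        ∀ s : Γ(F, ⊤), (∀ x : 𝟙_ (Over (Spec (CommRingCat.of Ω))) ⟶ Red.bc t A, x ^ N = 1 →
          pullTop x.left s = 0) → s = 0

/-- **LEV** -/
def LevStmt (g d n : ℕ) : Prop := ∀ (M : Over SZ.{u}) (ξ : Core M g) [IsNoetherian M.left], Core.ok g d n M ξ →
    ∀ (Q : ℕ), ∃ (N : ℕ) (W : Over SZ.{u}) (p : W ⟶ M) (G : Type u) (_ : Group G) (_ : Finite G)
      (ρ : G →* Aut W.left) (J : Type) (_ : Fintype J) (x : J → (𝟙_ (Over W.left) ⟶ (ξ.pull p).X)),
      Q < N ^ 2 ∧ IsFinite p.left ∧ Etale p.left ∧ SGA1.IsQuot ρ p.left ∧ (∀ a, x a ^ N = 1) ∧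
      (∀ a, pull (x a).left (ξ.pull p).c = 1) ∧ (∃ a, x a = η[(ξ.pull p).X]) ∧
      (∀ i, ∃ a, x a = (ξ.pull p).σ i) ∧
      ∀ (Ω : Type u) [Field Ω] [IsAlgClosed Ω] (w : Spec (CommRingCat.of Ω) ⟶ W.left), (N : Ω) ≠ 0 ∧
        ∀ y : 𝟙_ (Over (Spec (CommRingCat.of Ω))) ⟶ Red.bc w (ξ.pull p).X, y ^ N = 1 → ∃ a, y = secBc w (x a)

/-- **COREISO** -/
def CoreRStmt (g d n : ℕ) : Prop := ∀ {S : Scheme.{u}} {T : Over S} [IsLocallyNoetherian T.left]
  (x y : Core T g), Core.ok g d n T x → Core.ok g d n T y → ∀ (θ : x.X ≅ y.X), η[x.X] ≫ θ.hom = η[y.X] →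
    (∀ i, x.σ i ≫ θ.hom = y.σ i) → ∀ (K : ℕ), 1 ≤ K → pull θ.hom.left (y.c ^ K) = x.c ^ K → Core.r T x y

/-- **VA** -/
def VAStmt : Prop := ∀ {X S : Scheme.{u}} [IsNoetherian S] (π : X ⟶ S) [LocallyOfFiniteType π] (L : X.Modules)
  (hL : PicF.IsInvertible L), RelAmple.IsRelAmple π L → ∃ k₀ : ℕ, ∀ k : ℕ, k₀ ≤ k → ∀ (F : X.Modules)
    (hF : PicF.IsInvertible F), mk F hF = mk L hL ^ k → ∀ s : S, ∃ V : S.Opens, s ∈ V ∧ IsAffineOpen V ∧
      RelAmple.IsRelVeryAmplePn (π ∣_ V) (F.restrict (π ⁻¹ᵁ V).ι)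

/-- vanishing of `H^1` of the fibres -/
def H1Stmt (g d : ℕ) : Prop := ∀ {S : Scheme.{u}} [IsLocallyNoetherian S] (A : Over S) [GrpObj A] [IsCommMonObj A],
  AgPol.IsAbSch A g → ∀ c : Pic A.left, IsPolCl A d c → ∀ (j : ℕ), 1 ≤ j → ∀ (L : A.left.Modules)
    (hL : PicF.IsInvertible L), mk L hL = c ^ j → ∀ s : S, Subsingleton (CohIII.fiberH A.hom L s 1)

/-- **FIN** -/
def FinStmt : Prop := ∀ {S W M : Scheme.{u}} [IsAffine S] [IsNoetherian S] (q : M ⟶ S) [LocallyOfFiniteType q]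
    [QuasiCompact q] [IsSeparated q] (p : W ⟶ M) [IsFinite p] {G : Type u} [Group G] [Finite G] (ρ : G →* Aut W)
    (_ : SGA1.IsQuot ρ p) (r : ℕ) (f : W ⟶ CohB1.ProjSpaceOver r S)
    (_ : f ≫ CohB1.ProjSpaceOver.toBase r S = p ≫ q) [LocallyQuasiFinite f], RelProj.IsQuasiProjective q

theorem eta_bc {T T' : Scheme.{u}} (f : T' ⟶ T) (X : Over T) [GrpObj X] : η[Red.bc f X] = secBc f η[X] := by
  have h0 : ∀ {T : Scheme.{u}} (X : Over T) [GrpObj X], (1 : 𝟙_ (Over T) ⟶ X) = η[X] := fun {T} X _ => by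
    rw [Hom.one_def]
    have : toUnit (𝟙_ (Over T)) = 𝟙 _ := toUnit_unique _ _
    rw [this, Category.id_comp]
  have h1 : ∀ s : 𝟙_ (Over T) ⟶ X, secBc f s =
      up (k := f) (U := 𝟙_ (Over T')) (toUnit (dn f (𝟙_ (Over T'))) ≫ s) := fun s => by
    apply hom_ext_bc
    rw [up_left_fst, Over.comp_left]
    exact pullback.lift_fst _ _ _
  rw [← h0, ← h0, h1, MonObj.comp_one, up_one]

section pts

variable {S W : Scheme.{u}} (A : Over S) (p : W ⟶ S)

/-- The point of the total space given by a section of the base change. -/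
def zp (x : 𝟙_ (Over W) ⟶ Red.bc p A) : W ⟶ A.left := x.left ≫ pullback.fst A.hom p

theorem zp_hom (x : 𝟙_ (Over W) ⟶ Red.bc p A) : zp A p x ≫ A.hom = p := by
  rw [zp, Category.assoc, pullback.condition, ← Category.assoc]
  have h : x.left ≫ pullback.snd A.hom p = 𝟙 W := Over.w x
  rw [h, Category.id_comp]

theorem up_pow' {S S' : Scheme.{u}} {k : S' ⟶ S} {X : Over S} [GrpObj X] {U : Over S'} (a : dn k U ⟶ X) (n : ℕ) :
    up (a ^ n) = up a ^ n := by
  induction n with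
  | zero => rw [pow_zero, pow_zero, up_one]
  | succ n ih => rw [pow_succ, pow_succ, up_mul, ih]

/-- Torsion points of the fibre over `w ≫ p`. -/
theorem tors_pts [GrpObj A] (N : ℕ) {J : Type} (x : J → (𝟙_ (Over W) ⟶ Red.bc p A)) {Ω : Type u} [Field Ω]
    (w : Spec (CommRingCat.of Ω) ⟶ W)
    (hx : ∀ y : 𝟙_ (Over (Spec (CommRingCat.of Ω))) ⟶ Red.bc w (Red.bc p A), y ^ N = 1 → ∃ a, y = secBc w (x a))
    (y : 𝟙_ (Over (Spec (CommRingCat.of Ω))) ⟶ Red.bc (w ≫ p) A) (hy : y ^ N = 1) :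
    ∃ a, y.left = xp A.hom w (zp A p (x a)) (zp_hom A p (x a)) := by
  obtain ⟨b, rfl⟩ := exists_up y
  have hb : b ^ N = 1 := up_inj (by rw [up_pow', hy, up_one])
  let i : dn p (dn w (𝟙_ (Over (Spec (CommRingCat.of Ω))))) ⟶ dn (w ≫ p) (𝟙_ (Over (Spec (CommRingCat.of Ω)))) :=
    Over.homMk (𝟙 _) (by simp)
  have h1 : (up (k := w) (up (k := p) (i ≫ b))) ^ N = 1 := by
    rw [← up_pow', ← up_pow', ← MonObj.comp_pow, hb, MonObj.comp_one, up_one, up_one]
  obtain ⟨a, ha⟩ := hx _ h1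
  refine ⟨a, ?_⟩
  have h2 : (up (k := w) (up (k := p) (i ≫ b))).left ≫ pullback.fst (Red.bc p A).hom w ≫ pullback.fst A.hom p =
      b.left := by
    rw [← Category.assoc, up_left_fst]
    refine (up_left_fst (k := p) (i ≫ b)).trans ?_
    exact Category.id_comp _
  have h3 : (secBc w (x a)).left ≫ pullback.fst (Red.bc p A).hom w = w ≫ (x a).left := pullback.lift_fst _ _ _
  apply pullback.hom_ext
  · rw [xp_fst, zp, ← Category.assoc, ← h3, ← ha, Category.assoc, h2]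
    exact up_left_fst b
  · rw [xp_snd]
    exact up_left_snd b

end pts

/-- Separation of sections. -/
theorem sep {g d : ℕ} (hInj : InjStmt.{u} g d) {S W : Scheme.{u}} (A : Over S) [GrpObj A] [IsCommMonObj A]
    (hA : AgPol.IsAbSch A g) {c : Pic A.left} (hc : IsPolCl A d c) {j : ℕ} (hj : 1 ≤ j) {L : A.left.Modules}
    (hL : PicF.IsInvertible L) (hLc : mk L hL = c ^ (3 * j)) (p : W ⟶ S) {J : Type}
    (x : J → (𝟙_ (Over W) ⟶ Red.bc p A)) (N j' : ℕ) (hj' : 1 ≤ j')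
    (hb : ((2 * (3 * (j * j'))) ^ g * d) ^ 2 * g.factorial < N ^ 2)
    (hx : ∀ (Ω : Type u) [Field Ω] [IsAlgClosed Ω] (w : Spec (CommRingCat.of Ω) ⟶ W), (N : Ω) ≠ 0 ∧
      ∀ y : 𝟙_ (Over (Spec (CommRingCat.of Ω))) ⟶ Red.bc w (Red.bc p A), y ^ N = 1 → ∃ a, y = secBc w (x a)) :
    Sep A.hom L hL (fun a => zp A p (x a)) (fun a => zp_hom A p (x a)) j' := by
  intro Ω _ _ w F hF hFc s hs
  obtain ⟨h1, h2⟩ := hx Ω w
  refine hInj S A hA c hc (j * j') (Nat.mul_pos hj hj') Ω (w ≫ p) N h1 hb F hF ?_ s fun y hy => ?_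
  · rw [hFc, hLc, ← map_pow, ← pow_mul, mul_assoc]
  · obtain ⟨a, ha⟩ := tors_pts A p N x w h2 y hy
    rw [ha]
    exact hs a

/-- **Quasi-projectivity**, from the pieces. -/
theorem main {g d n : ℕ} (hAmp : Node.Amp.{u}) (hfib : FibStmt.{u}) (hlin : LinStmt.{u}) (hLoc : Loc.{u})
    (hInj : InjStmt.{u} g d) (hLev : LevStmt.{u} g d n) (hCR : CoreRStmt.{u} g d n) (hVA : VAStmt.{u})
    (hH1 : H1Stmt.{u} g d) (hFin : FinStmt.{u})
    (hpull : ∀ {S : Scheme.{u}} {T T' : Over S} (k : T' ⟶ T) (z : Core T g), Core.ok g d n T z →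
      Core.ok g d n T' (z.pull k)) : Node.QP.{u} g d n := by
  intro M ξ hN hft hsep hok huniq
  have hab := hok.ab
  have hcomm := hok.comm
  have i1 := hab.smooth
  have i2 := hab.proper
  have i3 := hab.geomConnected
  -- the module
  obtain ⟨C, hC, hcC⟩ := exists_mk ξ.c
  have hpol : IsPolCl ξ.X d (mk C hC) := hcC ▸ hok.pol
  have hamp : RelAmple.IsRelAmple ξ.X.hom C := hAmp _ ξ.X g d hab C hC hpol
  obtain ⟨k₀, hk₀⟩ := hVA ξ.X.hom C hC hamp
  obtain ⟨L, hL, hLc⟩ := exists_mk (ξ.c ^ (3 * (k₀ + 1)))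
  have hva := hk₀ (3 * (k₀ + 1)) (by omega) L hL (by rw [← hLc, hcC])
  have hH := hH1 ξ.X hab ξ.c hok.pol (3 * (k₀ + 1)) (by omega) L hL hLc.symm
  obtain ⟨B, D₀, hD₀⟩ := hLoc M.left ξ.X.left ξ.X.hom L hL hH hva
  have hch := hD₀ (D₀ + 1) (by omega)
  -- the level covering
  obtain ⟨N, W, p, G, _, _, ρ, J, _, x, hQ, hfin, het, hquot, -, hx1, ⟨a₀, ha₀⟩, hσ, hgeo⟩ :=
    hLev M ξ hok (((2 * (3 * ((k₀ + 1) * (D₀ + 1)))) ^ g * d) ^ 2 * g.factorial)
  have hzL : ∀ a, pull (zp ξ.X p.left (x a)) (mk L hL) = 1 := by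
    intro a
    have h1 := hx1 a
    change pull (x a).left (pull (pullback.fst ξ.X.hom p.left) ξ.c) = 1 at h1
    rw [zp, pull_comp, ← hLc, map_pow, map_pow]
    exact (congrArg (fun e => e ^ (3 * (k₀ + 1))) h1).trans (one_pow _)
  have hs1 := sep hInj ξ.X hab hok.pol (j := k₀ + 1) (by omega) hL hLc.symm p.left x N 1 le_rfl (by
    refine lt_of_le_of_lt ?_ hQ
    gcongr
    omega) hgeo
  have hsD := sep hInj ξ.X hab hok.pol (j := k₀ + 1) (by omega) hL hLc.symm p.left x N (D₀ + 1) (by omega) hQ hgeo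
  have hint : GeometricallyIntegral ξ.X.hom := K814.AbBasic.geometricallyIntegral ξ.X
  obtain ⟨R, γ, hγ⟩ := gen hfib hlin hzL hs1 hsD (fun Ω _ _ t => by
    have : IsIntegral (pullback ξ.X.hom t) :=
      GeometricallyIntegral.isIntegral_of_subsingleton (pullback.snd ξ.X.hom t)
    infer_instance) hch
  -- geometric points with the same image
  have hgeom : ∀ (Ω : Type u) [Field Ω] [IsAlgClosed Ω] (w w' : Spec (CommRingCat.of Ω) ⟶ W.left),
      w ≫ γ = w' ≫ γ → w ≫ p.left = w' ≫ p.left := by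
    intro Ω _ _ w w' hww
    obtain ⟨θ, h1, h2, h3⟩ := hγ Ω w w' hww
    let t : Spec (CommRingCat.of Ω) ⟶ SZ.{u} := w ≫ p.left ≫ M.hom
    let a : Over.mk t ⟶ M := Over.homMk (w ≫ p.left) (by simp [t])
    let b : Over.mk t ⟶ M := Over.homMk (w' ≫ p.left) (specULiftZIsTerminal.hom_ext _ _)
    let θ' : (ξ.pull a).X ≅ (ξ.pull b).X := Over.isoMk θ h1
    have hxp : ∀ (v : Spec (CommRingCat.of Ω) ⟶ W.left) (y : 𝟙_ (Over W.left) ⟶ Red.bc p.left ξ.X)
        (s : 𝟙_ (Over M.left) ⟶ ξ.X), y.left ≫ pullback.fst ξ.X.hom p.left = p.left ≫ s.left →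
        xp ξ.X.hom v (zp ξ.X p.left y) (zp_hom _ _ y) = (secBc (v ≫ p.left) s).left := by
      intro v y s hys
      apply pullback.hom_ext
      · rw [xp_fst, zp, hys]
        exact ((Category.assoc _ _ _).symm.trans (pullback.lift_fst _ _ _).symm)
      · rw [xp_snd]
        exact (pullback.lift_snd _ _ _).symm
    have hpt : ∀ (y : 𝟙_ (Over W.left) ⟶ Red.bc p.left ξ.X) (s : 𝟙_ (Over M.left) ⟶ ξ.X),
        (∃ c, x c = y) → y.left ≫ pullback.fst ξ.X.hom p.left = p.left ≫ s.left →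
        (secBc a.left s) ≫ θ'.hom = secBc b.left s := by
      rintro _ s ⟨c, rfl⟩ hys
      ext1
      rw [Over.comp_left]
      change (secBc (w ≫ p.left) s).left ≫ θ.hom = (secBc (w' ≫ p.left) s).left
      rw [← hxp w (x c) s hys, ← hxp w' (x c) s hys]
      exact h2 c
    have hr : Core.r _ (ξ.pull a) (ξ.pull b) := by
      have : IsLocallyNoetherian (Over.mk t).left := by
        change IsLocallyNoetherian (Spec (CommRingCat.of Ω))
        infer_instance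
      refine hCR (ξ.pull a) (ξ.pull b) (hpull a ξ hok) (hpull b ξ hok) θ' ?_ ?_ (3 * (k₀ + 1)) (by omega) ?_
      · have e1 : ∀ (v : Over.mk t ⟶ M), η[(ξ.pull v).X] = secBc v.left η[ξ.X] := fun v => eta_bc v.left ξ.X
        rw [e1, e1]
        refine hpt η[Red.bc p.left ξ.X] η[ξ.X] ⟨a₀, ha₀⟩ ?_
        rw [eta_bc]
        exact pullback.lift_fst _ _ _
      · intro i
        obtain ⟨c, hc⟩ := hσ i
        exact hpt _ (ξ.σ i) ⟨c, hc⟩ (pullback.lift_fst _ _ _)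
      · have e2 : ∀ (v : Over.mk t ⟶ M), (ξ.pull v).c ^ (3 * (k₀ + 1)) =
            pull (pullback.fst ξ.X.hom v.left) (mk L hL) := by
          intro v
          rw [← hLc, map_pow]
          rfl
        rw [e2, e2]
        exact h3
    have hab' := huniq Ω t a b hr
    exact congrArg (fun v : Over.mk t ⟶ M => v.left) hab'
  -- quasi-finiteness
  let f : W.left ⟶ CohB1.ProjSpaceOver R SZ.{u} := liftP γ (p.left ≫ M.hom)
  have hf1 : f ≫ CohB1.ProjSpaceOver.toBase R SZ.{u} = p.left ≫ M.hom := liftP_toBase _ _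
  have hf2 : f ≫ Groth.Agent.Dix.ProjProper.toZ R SZ.{u} = γ := liftP_toZ _ _
  have hlft : LocallyOfFiniteType f := by
    have : LocallyOfFiniteType (f ≫ CohB1.ProjSpaceOver.toBase R SZ.{u}) := by
      rw [hf1]
      infer_instance
    exact locallyOfFiniteType_of_comp f (CohB1.ProjSpaceOver.toBase R SZ.{u})
  have hlqf : LocallyQuasiFinite f := QPQf.locallyQuasiFinite_of_geom f p.left fun Ω _ _ w w' hww => by
    refine hgeom Ω w w' ?_
    rw [← hf2, ← Category.assoc, hww, Category.assoc]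
  have hqc : QuasiCompact M.hom := inferInstance
  have hZ : IsNoetherianRing (ULift.{u} ℤ) := isNoetherianRing_of_ringEquiv ℤ ULift.ringEquiv.symm
  have hSZ : IsNoetherian SZ.{u} := inferInstanceAs (IsNoetherian (Spec (CommRingCat.of (ULift.{u} ℤ))))
  exact hFin M.hom p.left ρ hquot R f hf1

end

end K652.QPAsm
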