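import Groth.Agent.AgPol.K652.QPGen

/-!
# The morphism to projective space separating the fibres, with its homogeneous coordinates

`gen_data` : as `QPGen.gen`, keeping the homogeneous coordinates of `γ` (the maximal minors of the matrix of values
of any frame).
-/

set_option autoImplicit false
universe u

open AlgebraicGeometry CategoryTheory CategoryTheory.Limits TopologicalSpace Matrix

namespace K652.QPGen2

open Groth.Agent.Fdesc.LocGen Groth.Agent.Grpsch.PicGrp K390.PnSec K652.QPRf K652.QPPt K652.QPNodes K652.QPVal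
  K652.QPStep K652.QPLin K652.QPChart K652.QPGen

variable {S X W : Scheme.{u}} {π : X ⟶ S} {L : X.Modules} {hL : PicF.IsInvertible L} {J : Type} {p : W ⟶ S}
  {z : J → (W ⟶ X)} (hz : ∀ a, z a ≫ π = p) (ε : ∀ a, Γ((Scheme.Modules.pullback (z a)).obj L, ⊤))

/-- A frame of size `≤ B` with its matrix of values. -/
structure FrData (B : ℕ) where
  /-- the open -/
  U : S.Opens
  /-- the size -/
  h : ℕ
  /-- the frame -/
  e : Fin h → Γ(L, π ⁻¹ᵁ U)
  /-- the matrix -/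
  A : Matrix J (Fin h) Γ(W, p ⁻¹ᵁ U)
  hB : h < B + 1
  frame : Frame π L U e
  val : IsVal hz ε U e A

/-- `γ` has the maximal minors of the matrix of values of any frame of size `≤ B` as homogeneous coordinates. -/
def HasCoords {B R : ℕ} (eqv : Idx J B ≃ Fin (R + 1)) (γ : W ⟶ CohB1.ProjSpace R (ULift.{u} ℤ)) : Prop :=
  ∀ (F : FrData hz ε B) {T : Scheme.{u}} (w : T ⟶ W) (hw : ⊤ ≤ w ⁻¹ᵁ (p ⁻¹ᵁ F.U)),
    IsPt (w ≫ γ) (fun l => rf w hw (pv B F.A (eqv.symm l)))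

variable {hz ε}

/-- Existence of the morphism. -/
theorem exists_coords [Finite J] (hε : ∀ a, IsGen (ε a)) (h1 : Sep π L hL z hz 1) {B : ℕ}
    (hch : ∀ s : S, ∃ F : FrData hz ε B, s ∈ F.U) : ∃ (R : ℕ) (eqv : Idx J B ≃ Fin (R + 1))
      (γ : W ⟶ CohB1.ProjSpace R (ULift.{u} ℤ)), HasCoords hz ε eqv γ := by
  have := Fintype.ofFinite J
  obtain ⟨R, ⟨eqv⟩⟩ : ∃ R : ℕ, Nonempty (Idx J B ≃ Fin (R + 1)) := by
    have h2 : 0 < Fintype.card (Idx J B) := Fintype.card_pos_iff.2 ⟨⟨0, Fin.elim0⟩⟩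
    refine ⟨Fintype.card (Idx J B) - 1, ⟨(Fintype.equivFin _).trans (finCongr ?_)⟩⟩
    omega
  let V : FrData hz ε B → W.Opens := fun F => p ⁻¹ᵁ F.U
  let v : ∀ F : FrData hz ε B, Fin (R + 1) → Γ(W, V F) := fun F l => pv B F.A (eqv.symm l)
  have hgen : ∀ F : FrData hz ε B, ∀ x ∈ V F, ∃ l, x ∈ W.basicOpen (v F l) := by
    intro F x hx
    let Ω := AlgebraicClosure (W.residueField x)
    let w : Spec (CommRingCat.of Ω) ⟶ W :=
      Spec.map (CommRingCat.ofHom (algebraMap (W.residueField x) Ω)) ≫ W.fromSpecResidueField x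
    have hwx : ∀ y, w y = x := by
      intro y
      change (W.fromSpecResidueField x) _ = x
      exact W.fromSpecResidueField_apply x _
    have hw : ⊤ ≤ w ⁻¹ᵁ V F := fun y _ => by
      change w y ∈ V F
      rw [hwx]
      exact hx
    obtain ⟨κ, hκ⟩ := exists_minor hε h1 F.frame F.val Ω w hw
    refine ⟨eqv ⟨⟨F.h, F.hB⟩, κ⟩, ?_⟩
    have h3 : IsUnit (rf w hw (v F (eqv ⟨⟨F.h, F.hB⟩, κ⟩))) := by
      have h4 : v F (eqv ⟨⟨F.h, F.hB⟩, κ⟩) = minor F.A κ := by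
        change pv B F.A (eqv.symm (eqv ⟨⟨F.h, F.hB⟩, κ⟩)) = _
        rw [Equiv.symm_apply_apply, pv_self F.hB]
      rw [h4, ← map_minor]
      exact hκ
    have h4 := (Spec (CommRingCat.of Ω)).basicOpen_of_isUnit h3
    rw [basicOpen_rf] at h4
    obtain ⟨y⟩ : Nonempty (Spec (CommRingCat.of Ω)) := inferInstance
    have h5 : y ∈ w ⁻¹ᵁ (W.basicOpen (v F (eqv ⟨⟨F.h, F.hB⟩, κ⟩))) := by
      rw [h4]
      trivial
    have h6 : w y ∈ W.basicOpen (v F (eqv ⟨⟨F.h, F.hB⟩, κ⟩)) := h5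
    rwa [hwx] at h6
  have hov : ∀ F F' : FrData hz ε B, ∀ x, x ∈ V F → x ∈ V F' → ∃ (V' : W.Opens) (hi : V' ≤ V F) (hj : V' ≤ V F'),
      x ∈ V' ∧ ∃ c : Γ(W, V'), IsUnit c ∧ ∀ l, ores hj (v F' l) = c * ores hi (v F l) := by
    intro F F' x hx hx'
    obtain ⟨_, ⟨V', hV', rfl⟩, hxV', hle⟩ := S.isBasis_affineOpens.exists_subset_of_mem_open
      (show p x ∈ ((F.U ⊓ F'.U : S.Opens) : Set S) from ⟨hx, hx'⟩) (F.U ⊓ F'.U).isOpen
    have hle' : V' ≤ F.U ⊓ F'.U := hle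
    obtain ⟨c, hc, hcv⟩ := overlap hε F.frame F'.frame F.val F'.val (hle'.trans inf_le_left)
      (hle'.trans inf_le_right) hV' ⟨_, hxV'⟩ B
    exact ⟨p ⁻¹ᵁ V', p.preimage_mono (hle'.trans inf_le_left), p.preimage_mono (hle'.trans inf_le_right), hxV', c,
      hc, fun l => hcv _⟩
  obtain ⟨γ, hγ⟩ := exists_glue V (fun x => hch (p x)) v hgen hov
  exact ⟨R, eqv, γ, fun F {T} w hw => hγ F w hw⟩

/-- The separation property of the morphism. -/
theorem HasCoords.separates (hfib : FibStmt.{u}) (hlin : LinStmt.{u}) (hε : ∀ a, IsGen (ε a)) {D B : ℕ}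
    (h1 : Sep π L hL z hz 1) (hD : Sep π L hL z hz D)
    (hred : ∀ (Ω : Type u) [Field Ω] [IsAlgClosed Ω] (t : Spec (CommRingCat.of Ω) ⟶ S), IsReduced (pullback π t))
    (hch : ∀ s : S, ∃ (U : S.Opens) (m : ℕ) (e : Fin (m + 1) → Γ(L, π ⁻¹ᵁ U)), s ∈ U ∧ HasChart π L D B U e)
    {R : ℕ} {eqv : Idx J B ≃ Fin (R + 1)} {γ : W ⟶ CohB1.ProjSpace R (ULift.{u} ℤ)} (hγ : HasCoords hz ε eqv γ)
    (Ω : Type u) [Field Ω] [IsAlgClosed Ω] (w w' : Spec (CommRingCat.of Ω) ⟶ W) (hww : w ≫ γ = w' ≫ γ) :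
    ∃ θ : pullback π (w ≫ p) ≅ pullback π (w' ≫ p), θ.hom ≫ pullback.snd π (w' ≫ p) = pullback.snd π (w ≫ p) ∧
        (∀ a, xp π w (z a) (hz a) ≫ θ.hom = xp π w' (z a) (hz a)) ∧
        pull θ.hom (pull (pullback.fst π (w' ≫ p)) (mk L hL)) = pull (pullback.fst π (w ≫ p)) (mk L hL) := by
  obtain ⟨y⟩ : Nonempty (Spec (CommRingCat.of Ω)) := inferInstance
  obtain ⟨U, m, e, hU, he⟩ := hch (p (w y))
  obtain ⟨U', m', e', hU', he'⟩ := hch (p (w' y))
  obtain ⟨A, hA⟩ := exists_isVal (hz := hz) hε U e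
  obtain ⟨A', hA'⟩ := exists_isVal (hz := hz) hε U' e'
  have hall : ∀ (v : Spec (CommRingCat.of Ω) ⟶ W) (V : S.Opens), p (v y) ∈ V → ⊤ ≤ v ⁻¹ᵁ (p ⁻¹ᵁ V) := by
    intro v V hv y' _
    obtain rfl : y' = y := Subsingleton.elim _ _
    exact hv
  have hw := hall w U hU
  have hw' := hall w' U' hU'
  have h2 := hγ ⟨U, m + 1, e, A, he.1, he.2.1, hA⟩ w hw
  have h3 := hγ ⟨U', m' + 1, e', A', he'.1, he'.2.1, hA'⟩ w' hw'
  rw [← hww] at h3
  obtain ⟨c, hc, hcv⟩ := h2.exists_unit h3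
  have hnt : Nontrivial Γ(Spec (CommRingCat.of Ω), ⊤) := (isField_Γ Ω).nontrivial
  obtain ⟨e0, g, g', hg, hg', hAg⟩ := exists_eq_mul_of_pv B he.1 (A.map (rf w hw)) (A'.map (rf w' hw'))
    (exists_minor hε h1 he.2.1 hA Ω w hw) c hc fun κ => by
      have h4 := hcv (eqv κ)
      simp only [Equiv.symm_apply_apply] at h4
      rw [map_pv, map_pv]
      exact h4
  exact compare hfib hlin hε hD hred he he' hA hA' Ω w w' hw hw' e0 g g' hg hg' hAg

end K652.QPGen2
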