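import Groth.Agent.AgPol.K652.QPMain
import Groth.Agent.AgPol.K652.QPGen2

/-!
# The quasi-finite morphism attached to any power of the polarisation class

`data` : for `L` of class `ξ.c ^ K`, locally relatively very ample with vanishing `H^1` of the fibres, the level
covering `W` of the base, the points `z a : W ⟶ X`, generators `ε a` of `(z a)^* L` and the quasi-finite morphism
`gm : W ⟶ P^R` with the maximal minors of the matrices of values as homogeneous coordinates.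
-/

set_option autoImplicit false
universe u

open CategoryTheory Limits MonoidalCategory CartesianMonoidalCategory AlgebraicGeometry
open scoped MonObj

namespace K652.QPAsm2

open Groth.Agent.Fdesc.LocGen Groth.Agent.Grpsch.PicGrp K390.PnSec K652.QPRf K652.QPNodes K652.QPStep K652.QPChart
  K652.QPGen K652.QPLin K652.QPGen2 K652.QPAsm K117.Ag

section cube

variable {X Y : Scheme.{u}}

theorem eq_zero_of_pow [IsReduced X] {L : X.Modules} (hL : PicF.IsInvertible L) (s : Γ(L, ⊤)) (n : ℕ)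
    (h : pow s n = 0) : s = 0 := by
  rw [isInvertible_iff] at hL
  choose U e hU he using hL
  refine res_ext L U (fun _ => le_top) (fun x _ => TopologicalSpace.Opens.mem_iSup.2 ⟨x, hU x⟩) fun x => ?_
  obtain ⟨a, ha⟩ := (he x).exists_eq (res L le_top s)
  have h1 : res _ (le_top : U x ≤ ⊤) (pow s n) = 0 := by rw [h, map_zero]
  rw [res_pow, ha, smul_pow] at h1
  have h2 : a ^ n = 0 := ((he x).pow n).ext (by rw [h1, zero_smul])
  rw [ha, eq_zero_of_pow_eq_zero h2, zero_smul, map_zero]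

theorem pullTop_pow_eq_zero (i : X ⟶ Y) {M : Y.Modules} (hM : PicF.IsInvertible M) (s : Γ(M, ⊤)) (n : ℕ)
    (h : pullTop i s = 0) : pullTop i (pow s (n + 1)) = 0 := by
  have h1 : (pullTensor i (CohB1.tensorPow M n) M).app (i ⁻¹ᵁ ⊤) (pullSec i (tmul (pow s n) s)) =
      tmul (pullSec i (pow s n)) (pullSec i s) := pullTensor_app i (pow s n) s
  have h2 : pullSec i s = 0 := h
  have h3 : tmul (pullSec i (pow s n)) (pullSec i s) = 0 := by
    rw [h2, ← zero_smul Γ(X, i ⁻¹ᵁ ⊤) (0 : Γ((Scheme.Modules.pullback i).obj M, i ⁻¹ᵁ ⊤)), tmul_smul, zero_smul]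
  have h4 := isIso_pullTensor i (isInvertible_tensorPow hM n) hM
  rw [h3] at h1
  have h5 : (pullTensor i (CohB1.tensorPow M n) M ≫ inv (pullTensor i (CohB1.tensorPow M n) M)).app (i ⁻¹ᵁ ⊤)
      (pullSec i (tmul (pow s n) s)) = pullSec i (tmul (pow s n) s) := by
    rw [IsIso.hom_inv_id]
    rfl
  have h6 : (inv (pullTensor i (CohB1.tensorPow M n) M)).app (i ⁻¹ᵁ ⊤)
      ((pullTensor i (CohB1.tensorPow M n) M).app (i ⁻¹ᵁ ⊤) (pullSec i (tmul (pow s n) s))) =
      pullSec i (tmul (pow s n) s) := h5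
  rw [h1, map_zero] at h6
  exact h6.symm

end cube

/-- Separation of sections, any exponent. -/
theorem sep_pow {g d : ℕ} (hInj : InjStmt.{u} g d) {S W : Scheme.{u}} (A : Over S) [GrpObj A] [IsCommMonObj A]
    (hA : AgPol.IsAbSch A g) {c : Pic A.left} (hc : IsPolCl A d c) {K : ℕ} (hK : 1 ≤ K) {L : A.left.Modules}
    (hL : PicF.IsInvertible L) (hLc : mk L hL = c ^ K) (p : W ⟶ S) {J : Type}
    (x : J → (𝟙_ (Over W) ⟶ Red.bc p A)) (N j' : ℕ) (hj' : 1 ≤ j')
    (hb : ((2 * (3 * (K * j'))) ^ g * d) ^ 2 * g.factorial < N ^ 2)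
    (hx : ∀ (Ω : Type u) [Field Ω] [IsAlgClosed Ω] (w : Spec (CommRingCat.of Ω) ⟶ W), (N : Ω) ≠ 0 ∧
      ∀ y : 𝟙_ (Over (Spec (CommRingCat.of Ω))) ⟶ Red.bc w (Red.bc p A), y ^ N = 1 → ∃ a, y = secBc w (x a)) :
    Sep A.hom L hL (fun a => zp A p (x a)) (fun a => zp_hom A p (x a)) j' := by
  intro Ω _ _ w F hF hFc s hs
  obtain ⟨h1, h2⟩ := hx Ω w
  have i1 := hA.smooth
  have i2 := hA.proper
  have i3 := hA.geomConnected
  have hint : GeometricallyIntegral A.hom := K814.AbBasic.geometricallyIntegral A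
  have hred : IsReduced (pullback A.hom (w ≫ p)) := by
    have : IsIntegral (pullback A.hom (w ≫ p)) :=
      GeometricallyIntegral.isIntegral_of_subsingleton (pullback.snd A.hom (w ≫ p))
    infer_instance
  refine eq_zero_of_pow hF s 3 ?_
  refine hInj S A hA c hc (K * j') (Nat.mul_pos hK hj') Ω (w ≫ p) N h1 hb _ (isInvertible_tensorPow hF 3) ?_ _
    fun y hy => ?_
  · rw [mk_tensorPow hF 3, hFc, hLc, ← map_pow, ← map_pow, ← pow_mul, ← pow_mul, mul_comm 3 (K * j'), mul_assoc]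
  · obtain ⟨a, ha⟩ := tors_pts A p N x w h2 y hy
    rw [ha]
    exact pullTop_pow_eq_zero _ hF s 2 (hs a)

/-- **The quasi-finite morphism attached to a power of the polarisation class.** -/
theorem data {g d n : ℕ} (hg : 1 ≤ g) (hn : 2 ≤ n) (M : Over SZ.{u}) (ξ : Core M g) [IsNoetherian M.left]
    [LocallyOfFiniteType M.hom] (hok : Core.ok g d n M ξ)
    (huniq : ∀ (Ω : Type u) [Field Ω] [IsAlgClosed Ω] (t : Spec (CommRingCat.of Ω) ⟶ SZ.{u}) (a b : Over.mk t ⟶ M),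
      Core.r _ (ξ.pull a) (ξ.pull b) → a = b) (K : ℕ) (hK : 1 ≤ K) (L : ξ.X.left.Modules)
    (hL : PicF.IsInvertible L) (hLc : mk L hL = ξ.c ^ K)
    (hva : ∀ s : M.left, ∃ V : M.left.Opens, s ∈ V ∧ IsAffineOpen V ∧
      RelAmple.IsRelVeryAmplePn (ξ.X.hom ∣_ V) (L.restrict (ξ.X.hom ⁻¹ᵁ V).ι))
    (hH : ∀ s : M.left, Subsingleton (CohIII.fiberH ξ.X.hom L s 1)) :
    ∃ (W : Over SZ.{u}) (p : W ⟶ M) (G : Type u) (_ : Group G) (_ : Finite G) (ρ : G →* Aut W.left) (J : Type)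
      (_ : Finite J) (z : J → (W.left ⟶ ξ.X.left)) (hz : ∀ a, z a ≫ ξ.X.hom = p.left)
      (ε : ∀ a, Γ((Scheme.Modules.pullback (z a)).obj L, ⊤)) (B R : ℕ) (eqv : Idx J B ≃ Fin (R + 1))
      (gm : W.left ⟶ CohB1.ProjSpace R (ULift.{u} ℤ)),
      IsFinite p.left ∧ Etale p.left ∧ SGA1.IsQuot ρ p.left ∧ (∀ a, IsGen (ε a)) ∧
      (∀ s : M.left, ∃ F : FrData hz ε B, s ∈ F.U) ∧ HasCoords hz ε eqv gm ∧
      LocallyQuasiFinite (liftP gm (p.left ≫ M.hom)) := by
  have hab := hok.ab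
  have hcomm := hok.comm
  have i1 := hab.smooth
  have i2 := hab.proper
  have i3 := hab.geomConnected
  have hint : GeometricallyIntegral ξ.X.hom := K814.AbBasic.geometricallyIntegral ξ.X
  have hLoc : Loc.{u} := K302.Loc.loc K46.Cut.cut
  obtain ⟨B, D₀, hD₀⟩ := hLoc M.left ξ.X.left ξ.X.hom L hL hH hva
  have hch := hD₀ (D₀ + 1) (by omega)
  have hInj : InjStmt.{u} g d := QPMain.injStmt hg
  -- the level covering
  obtain ⟨N, W, p, G, _, _, ρ, J, _, x, hQ, hfin, het, hquot, -, hx1, ⟨a₀, ha₀⟩, hσ, hgeo⟩ :=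
    K382.Lev.lev K382.LevCover.main hg hn M ξ hok (((2 * (3 * (K * (D₀ + 1)))) ^ g * d) ^ 2 * g.factorial)
  have hzL : ∀ a, pull (zp ξ.X p.left (x a)) (mk L hL) = 1 := by
    intro a
    have h1 := hx1 a
    change pull (x a).left (pull (pullback.fst ξ.X.hom p.left) ξ.c) = 1 at h1
    rw [zp, pull_comp, hLc, map_pow, map_pow]
    exact (congrArg (fun e => e ^ K) h1).trans (one_pow _)
  have hs1 := sep_pow hInj ξ.X hab hok.pol hK hL hLc p.left x N 1 le_rfl (by
    refine lt_of_le_of_lt ?_ hQ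
    gcongr
    omega) hgeo
  have hsD := sep_pow hInj ξ.X hab hok.pol hK hL hLc p.left x N (D₀ + 1) (by omega) hQ hgeo
  choose ε hε using fun a => exists_gen (zp ξ.X p.left (x a)) hL (hzL a)
  have hz : ∀ a, zp ξ.X p.left (x a) ≫ ξ.X.hom = p.left := fun a => zp_hom ξ.X p.left (x a)
  have hcov : ∀ s : M.left, ∃ F : FrData hz ε B, s ∈ F.U := by
    intro s
    obtain ⟨U, m, e, hU, he⟩ := hch s
    obtain ⟨A, hA⟩ := QPVal.exists_isVal (hz := hz) hε U e
    exact ⟨⟨U, m + 1, e, A, he.1, he.2.1, hA⟩, hU⟩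
  obtain ⟨R, eqv, gm, hcoord⟩ := exists_coords hε hs1 hcov
  have hgm := fun (Ω : Type u) [Field Ω] [IsAlgClosed Ω] (w w' : Spec (CommRingCat.of Ω) ⟶ W.left)
      (hww : w ≫ gm = w' ≫ gm) => HasCoords.separates QPMain.fibStmt QPMain.linStmt hε hs1 hsD (fun Ω _ _ t => by
    have : IsIntegral (pullback ξ.X.hom t) :=
      GeometricallyIntegral.isIntegral_of_subsingleton (pullback.snd ξ.X.hom t)
    infer_instance) hch hcoord Ω w w' hww
  -- geometric points with the same image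
  have hgeom : ∀ (Ω : Type u) [Field Ω] [IsAlgClosed Ω] (w w' : Spec (CommRingCat.of Ω) ⟶ W.left),
      w ≫ gm = w' ≫ gm → w ≫ p.left = w' ≫ p.left := by
    intro Ω _ _ w w' hww
    obtain ⟨θ, h1, h2, h3⟩ := hgm Ω w w' hww
    let t : Spec (CommRingCat.of Ω) ⟶ SZ.{u} := w ≫ p.left ≫ M.hom
    let a : Over.mk t ⟶ M := Over.homMk (w ≫ p.left) (by simp [t])
    let b : Over.mk t ⟶ M := Over.homMk (w' ≫ p.left) (specULiftZIsTerminal.hom_ext _ _)
    let θ' : (ξ.pull a).X ≅ (ξ.pull b).X := Over.isoMk θ h1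
    have hxp : ∀ (v : Spec (CommRingCat.of Ω) ⟶ W.left) (y : 𝟙_ (Over W.left) ⟶ Red.bc p.left ξ.X)
        (s : 𝟙_ (Over M.left) ⟶ ξ.X), y.left ≫ pullback.fst ξ.X.hom p.left = p.left ≫ s.left →
        xp ξ.X.hom v (zp ξ.X p.left y) (zp_hom _ _ y) = (secBc (v ≫ p.left) s).left := by
      intro v y s hys
      apply pullback.hom_ext
      · rw [xp_fst, zp, hys]
        exact ((Category.assoc _ _ _).symm.trans (pullback.lift_fst _ _ _).symm)
      · rw [xp_snd]
        exact (pullback.lift_snd _ _ _).symm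
    have hpt : ∀ (y : 𝟙_ (Over W.left) ⟶ Red.bc p.left ξ.X) (s : 𝟙_ (Over M.left) ⟶ ξ.X),
        (∃ c, x c = y) → y.left ≫ pullback.fst ξ.X.hom p.left = p.left ≫ s.left →
        (secBc a.left s) ≫ θ'.hom = secBc b.left s := by
      rintro _ s ⟨c, rfl⟩ hys
      ext1
      rw [Over.comp_left]
      change (secBc (w ≫ p.left) s).left ≫ θ.hom = (secBc (w' ≫ p.left) s).left
      rw [← hxp w (x c) s hys, ← hxp w' (x c) s hys]
      exact h2 c
    have hr : Core.r _ (ξ.pull a) (ξ.pull b) := by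
      have : IsLocallyNoetherian (Over.mk t).left := by
        change IsLocallyNoetherian (Spec (CommRingCat.of Ω))
        infer_instance
      refine K116.QPCoreR.core_r (ξ.pull a) (ξ.pull b) (K817.Closed.ok_pull a hok) (K817.Closed.ok_pull b hok) θ'
        ?_ ?_ K hK ?_
      · have e1 : ∀ (v : Over.mk t ⟶ M), η[(ξ.pull v).X] = secBc v.left η[ξ.X] := fun v => eta_bc v.left ξ.X
        rw [e1, e1]
        refine hpt η[Red.bc p.left ξ.X] η[ξ.X] ⟨a₀, ha₀⟩ ?_
        rw [eta_bc]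
        exact pullback.lift_fst _ _ _
      · intro i
        obtain ⟨c, hc⟩ := hσ i
        exact hpt _ (ξ.σ i) ⟨c, hc⟩ (pullback.lift_fst _ _ _)
      · have e2 : ∀ (v : Over.mk t ⟶ M), (ξ.pull v).c ^ K = pull (pullback.fst ξ.X.hom v.left) (mk L hL) := by
          intro v
          rw [hLc, map_pow]
          rfl
        rw [e2, e2]
        exact h3
    have hab' := huniq Ω t a b hr
    exact congrArg (fun v : Over.mk t ⟶ M => v.left) hab'
  -- quasi-finiteness
  have hf1 : liftP gm (p.left ≫ M.hom) ≫ CohB1.ProjSpaceOver.toBase R SZ.{u} = p.left ≫ M.hom := liftP_toBase _ _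
  have hf2 : liftP gm (p.left ≫ M.hom) ≫ Groth.Agent.Dix.ProjProper.toZ R SZ.{u} = gm := liftP_toZ _ _
  have hlft : LocallyOfFiniteType (liftP gm (p.left ≫ M.hom)) := by
    have : LocallyOfFiniteType (liftP gm (p.left ≫ M.hom) ≫ CohB1.ProjSpaceOver.toBase R SZ.{u}) := by
      rw [hf1]
      infer_instance
    exact locallyOfFiniteType_of_comp _ (CohB1.ProjSpaceOver.toBase R SZ.{u})
  have hlqf : LocallyQuasiFinite (liftP gm (p.left ≫ M.hom)) :=
    QPQf.locallyQuasiFinite_of_geom _ p.left fun Ω _ _ w w' hww => by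
      refine hgeom Ω w w' ?_
      rw [← hf2, ← Category.assoc, hww, Category.assoc]
  exact ⟨W, p, G, _, ‹_›, ρ, J, inferInstance, fun a => zp ξ.X p.left (x a), hz, ε, B, R, eqv, gm, hfin, het, hquot,
    hε, hcov, hcoord, hlqf⟩

end K652.QPAsm2
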