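import Groth.Agent.AgPol.K652.QPRf
import Groth.Agent.Desc.K390.PnSec
import Groth.Agent.GIT.K689.SchGlue

/-!
# Points of the absolute projective space given by vectors of functions

* `IsPt r v` : the morphism `r : T ⟶ P^m_ℤ` has homogeneous coordinates `v`;
* `isPt_iff` (in terms of any module with a generator), `comp`, `uniq`, `smul`, `exists_unit`, `exists_isPt`;
* `exists_glue` : glueing local coordinate vectors that differ by units.
-/

set_option autoImplicit false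
universe u

open CategoryTheory Limits AlgebraicGeometry TopologicalSpace

namespace K652.QPPt

open Groth.Agent.Fdesc.LocGen K390.PnSec K652.QPRf

variable {T T' : Scheme.{u}} {m : ℕ}

/-- The morphism `r` is the point of projective space with coordinates `v`. -/
def IsPt (r : T ⟶ CohB1.ProjSpace m (ULift.{u} ℤ)) (v : Fin (m + 1) → Γ(T, ⊤)) : Prop :=
  GivenBy r (Coh.structureModule T) (fun i => (ofFun (v i) : Γ(Coh.structureModule T, ⊤)))

theorem homOf_app_smul {L : T.Modules} (ε : Γ(L, ⊤)) (a : Γ(T, ⊤)) :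
    (homOf ε).app ⊤ (ofFun a) = a • ε := by
  rw [homOf_app]
  congr 1
  simp

/-- A point in terms of any module with a generator. -/
theorem isPt_iff {r : T ⟶ CohB1.ProjSpace m (ULift.{u} ℤ)} {v : Fin (m + 1) → Γ(T, ⊤)} {L : T.Modules}
    {ε : Γ(L, ⊤)} (hε : IsGen ε) : IsPt r v ↔ GivenBy r L (fun i => v i • ε) := by
  have h1 : IsIso (homOf ε) := (isIso_iff_isGen _).mpr (by simpa using hε)
  constructor
  · intro h
    have h2 := h.of_iso (asIso (homOf ε))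
    have h3 : (fun i => (asIso (homOf ε)).hom.app ⊤ (ofFun (v i))) = fun i => v i • ε :=
      funext fun i => homOf_app_smul ε (v i)
    rw [h3] at h2
    exact h2
  · intro h
    have h2 := h.of_iso (asIso (homOf ε)).symm
    have h3 : (fun i => (asIso (homOf ε)).symm.hom.app ⊤ (v i • ε)) = fun i => ofFun (v i) := by
      funext i
      rw [← homOf_app_smul]
      exact congr($(congrArg (fun t : Coh.structureModule T ⟶ _ => t.app ⊤) (asIso (homOf ε)).hom_inv_id) (ofFun (v i)))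
    rw [h3] at h2
    exact h2

theorem IsPt.comp {r : T ⟶ CohB1.ProjSpace m (ULift.{u} ℤ)} {v : Fin (m + 1) → Γ(T, ⊤)} (h : IsPt r v)
    (g : T' ⟶ T) : IsPt (g ≫ r) (fun i => g.appTop (v i)) := by
  have h1 : IsGen (pullTop g (one (X := T) ⊤)) := (isGen_one ⊤).pullTop g
  rw [isPt_iff h1]
  have h2 := GivenBy.comp h g
  have h3 : (fun i => pullTop g (ofFun (v i))) = fun i => (g.appTop (v i)) • pullTop g (one (X := T) ⊤) := by
    funext i
    rw [ofFun_eq_smul]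
    exact pullSec_smul g (v i) (one (X := T) ⊤)
  rw [h3] at h2
  exact h2

theorem IsPt.uniq {r r' : T ⟶ CohB1.ProjSpace m (ULift.{u} ℤ)} {v : Fin (m + 1) → Γ(T, ⊤)} (h : IsPt r v)
    (h' : IsPt r' v) : r = r' := GivenBy.unique' h h'

theorem IsPt.smul {r : T ⟶ CohB1.ProjSpace m (ULift.{u} ℤ)} {v : Fin (m + 1) → Γ(T, ⊤)} (h : IsPt r v)
    {c : Γ(T, ⊤)} (hc : IsUnit c) : IsPt r (fun i => c * v i) := by
  have h1 : IsGen ((↑hc.unit⁻¹ : Γ(T, ⊤)) • one (X := T) ⊤) := (isGen_one ⊤).unit_smul (Units.isUnit _)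
  rw [isPt_iff h1]
  have h3 : (fun i => (c * v i) • (↑hc.unit⁻¹ : Γ(T, ⊤)) • one (X := T) ⊤) = fun i => ofFun (v i) := by
    funext i
    rw [smul_smul, ofFun_eq_smul]
    congr 1
    rw [mul_comm c, mul_assoc, hc.mul_val_inv, mul_one]
  rw [h3]
  exact h

theorem IsPt.exists_unit {r : T ⟶ CohB1.ProjSpace m (ULift.{u} ℤ)} {v v' : Fin (m + 1) → Γ(T, ⊤)} (h : IsPt r v)
    (h' : IsPt r v') : ∃ c : Γ(T, ⊤), IsUnit c ∧ ∀ i, v' i = c * v i := by
  obtain ⟨e, he⟩ := GivenBy.exists_iso h h'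
  obtain ⟨c, hc⟩ := (isGen_one (X := T) ⊤).exists_eq (e.hom.app ⊤ (one ⊤))
  refine ⟨c, ?_, fun i => ?_⟩
  · have h1 : IsGen (e.hom.app ⊤ (one (X := T) ⊤)) := (isGen_one ⊤).app e.hom
    rw [hc] at h1
    exact (isGen_one ⊤).isUnit_of_smul h1
  · have h2 := he i
    rw [ofFun_eq_smul, Scheme.Modules.Hom.app_smul, hc, smul_smul, ← ofFun_eq_smul] at h2
    have h3 : v i * c = v' i := ofFun.injective h2
    rw [← h3, mul_comm]

theorem genLocus_ofFun (a : Γ(T, ⊤)) :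
    CohB1.genLocus (Coh.structureModule T) (homOf (ofFun a)) = T.basicOpen a := by
  have h := genLocus_inf_eq (homOf (ofFun a)) (isGen_one (X := T) ⊤) (a := a) (by
    rw [sec_homOf, ofFun_eq_smul]
    exact res_refl _ _)
  rwa [inf_top_eq] at h

theorem exists_isPt (v : Fin (m + 1) → Γ(T, ⊤)) (h : ⨆ i, T.basicOpen (v i) = ⊤) :
    ∃ r : T ⟶ CohB1.ProjSpace m (ULift.{u} ℤ), IsPt r v :=
  exists_givenBy' _ ((iSup_congr fun i => genLocus_ofFun (v i)).trans h)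

theorem IsPt.iSup {r : T ⟶ CohB1.ProjSpace m (ULift.{u} ℤ)} {v : Fin (m + 1) → Γ(T, ⊤)} (h : IsPt r v) :
    ⨆ i, T.basicOpen (v i) = ⊤ :=
  (iSup_congr fun i => (genLocus_ofFun (v i)).symm).trans (GivenBy.iSup_genLocus h)

/-- A point with values in a module with a generator. -/
theorem isPt_of_eq {r : T ⟶ CohB1.ProjSpace m (ULift.{u} ℤ)} {L : T.Modules} {s : Fin (m + 1) → Γ(L, ⊤)}
    (h : GivenBy r L s) {ε : Γ(L, ⊤)} (hε : IsGen ε) {v : Fin (m + 1) → Γ(T, ⊤)} (hs : ∀ i, s i = v i • ε) :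
    IsPt r v := by
  rw [isPt_iff hε, ← funext hs]
  exact h

section glue

variable {W : Scheme.{u}}

theorem exists_glue {R : ℕ} {κ : Type*} (V : κ → W.Opens) (hV : ∀ x, ∃ i, x ∈ V i)
    (v : ∀ i, Fin (R + 1) → Γ(W, V i)) (hgen : ∀ i, ∀ x ∈ V i, ∃ l, x ∈ W.basicOpen (v i l))
    (hov : ∀ i j, ∀ x, x ∈ V i → x ∈ V j → ∃ (V' : W.Opens) (hi : V' ≤ V i) (hj : V' ≤ V j), x ∈ V' ∧
      ∃ c : Γ(W, V'), IsUnit c ∧ ∀ l, ores hj (v j l) = c * ores hi (v i l)) :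
    ∃ γ : W ⟶ CohB1.ProjSpace R (ULift.{u} ℤ), ∀ i {T : Scheme.{u}} (f : T ⟶ W) (h : ⊤ ≤ f ⁻¹ᵁ V i),
      IsPt (f ≫ γ) (fun l => rf f h (v i l)) := by
  have hι : ∀ U : W.Opens, ⊤ ≤ U.ι ⁻¹ᵁ U := fun U => by rw [Scheme.Opens.ι_preimage_self]
  -- the local morphisms
  have h1 : ∀ i, ∃ r : (V i : Scheme.{u}) ⟶ CohB1.ProjSpace R (ULift.{u} ℤ),
      IsPt r (fun l => rf (V i).ι (hι (V i)) (v i l)) := by
    intro i
    refine exists_isPt _ ?_
    rw [eq_top_iff]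
    intro y _
    obtain ⟨l, hl⟩ := hgen i ((V i).ι y) (hι (V i) (show y ∈ (⊤ : (V i : Scheme.{u}).Opens) from trivial))
    rw [Opens.mem_iSup]
    refine ⟨l, ?_⟩
    rw [basicOpen_rf]
    exact hl
  choose r hr using h1
  -- values of the local morphisms
  have h2 : ∀ i {T : Scheme.{u}} (a : T ⟶ (V i : Scheme.{u})) (h : ⊤ ≤ (a ≫ (V i).ι) ⁻¹ᵁ V i),
      IsPt (a ≫ r i) (fun l => rf (a ≫ (V i).ι) h (v i l)) := by
    intro i T a h
    have h3 := (hr i).comp a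
    have h4 : (fun l => a.appTop (rf (V i).ι (hι (V i)) (v i l))) = fun l => rf (a ≫ (V i).ι) h (v i l) :=
      funext fun l => rf_comp a (V i).ι (hι (V i)) h (v i l)
    rw [h4] at h3
    exact h3
  -- agreement
  have h3 : ∀ i j {T : Scheme.{u}} (a : T ⟶ (V i : Scheme.{u})) (b : T ⟶ (V j : Scheme.{u})) (f : T ⟶ W),
      a ≫ (V i).ι = f → b ≫ (V j).ι = f → a ≫ r i = b ≫ r j := by
    rintro i j T a b f ha hb
    have hfi : ⊤ ≤ f ⁻¹ᵁ V i := by
      rw [← ha]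
      exact a.preimage_mono (hι (V i))
    have hfj : ⊤ ≤ f ⁻¹ᵁ V j := by
      rw [← hb]
      exact b.preimage_mono (hι (V j))
    choose V' hi hj hx c hc hcv using fun y : T => hov i j (f y) (hfi (show y ∈ (⊤ : T.Opens) from trivial))
      (hfj (show y ∈ (⊤ : T.Opens) from trivial))
    refine K689.SchGlue.hom_ext_opens (fun y : T => f ⁻¹ᵁ V' y) (fun y => ⟨y, hx y⟩) _ _ fun y => ?_
    let O : T.Opens := f ⁻¹ᵁ V' y
    let g : (O : Scheme.{u}) ⟶ T := O.ι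
    have hg0 : ⊤ ≤ g ⁻¹ᵁ O := by rw [Scheme.Opens.ι_preimage_self]
    have hg' : ⊤ ≤ (g ≫ f) ⁻¹ᵁ V' y := hg0
    have hgi : ⊤ ≤ (g ≫ f) ⁻¹ᵁ V i := hg'.trans ((g ≫ f).preimage_mono (hi y))
    have hgj : ⊤ ≤ (g ≫ f) ⁻¹ᵁ V j := hg'.trans ((g ≫ f).preimage_mono (hj y))
    have e1 : IsPt (g ≫ a ≫ r i) (fun l => rf (g ≫ f) hgi (v i l)) := by
      subst ha
      have h5 := h2 i (g ≫ a) (by rw [Category.assoc]; exact hgi)
      simp only [Category.assoc] at h5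
      exact h5
    have e2 : IsPt (g ≫ b ≫ r j) (fun l => rf (g ≫ f) hgj (v j l)) := by
      subst hb
      have h5 := h2 j (g ≫ b) (by rw [Category.assoc]; exact hgj)
      simp only [Category.assoc] at h5
      exact h5
    have e3 : (fun l => rf (g ≫ f) hgj (v j l)) =
        fun l => rf (g ≫ f) hg' (c y) * rf (g ≫ f) hgi (v i l) := by
      funext l
      rw [← rf_ores (g ≫ f) (hj y) hg' hgj, hcv y l, map_mul, rf_ores (g ≫ f) (hi y) hg' hgi]
    rw [e3] at e2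
    exact (e1.smul ((hc y).map (rf (g ≫ f) hg'))).uniq e2
  obtain ⟨γ, hγ⟩ := K689.SchGlue.glue_opens V hV r fun i j =>
    h3 i j _ _ (V i ⊓ V j).ι (by simp) (by simp)
  refine ⟨γ, fun i T f h => ?_⟩
  obtain ⟨a, ha⟩ : ∃ a : T ⟶ (V i : Scheme.{u}), a ≫ (V i).ι = f :=
    ⟨IsOpenImmersion.lift (V i).ι f (by
      rintro _ ⟨y, rfl⟩
      rw [Scheme.Opens.range_ι]
      exact h (show y ∈ (⊤ : T.Opens) from trivial)), IsOpenImmersion.lift_fac _ _ _⟩
  have h5 := h2 i a (by rw [ha]; exact h)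
  subst ha
  rw [Category.assoc, hγ i]
  exact h5

end glue

end K652.QPPt
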