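import Groth.Agent.AgPol.K652.QPPt
import Groth.Agent.AgPol.K652.QPNodes
import Groth.Agent.AgPol.K515.FrameGeom
import Mathlib.LinearAlgebra.Matrix.Defs

/-!
# Comparison of two embedded schemes over a field with proportional values at the same points

* `FibStmt`, `LinStmt` : the geometric inputs;
* `step` : the comparison.
-/

set_option autoImplicit false
universe u

open AlgebraicGeometry CategoryTheory CategoryTheory.Limits TopologicalSpace Matrix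

namespace K652.QPStep

open Groth.Agent.Fdesc.LocGen Groth.Agent.Grpsch.PicGrp K390.PnSec K652.QPRf K652.QPPt K652.QPNodes
  Groth.Agent.Dix.ProjProper

/-- Two embedded reduced schemes, cut out by forms of degree `D`, with common points separating these forms, agree. -/
def FibStmt : Prop := ∀ (Ω : Type u) [Field Ω] [IsAlgClosed Ω] (X X' : Scheme.{u}) [IsReduced X] [IsReduced X']
  (m D : ℕ) (i : X ⟶ CohB1.ProjSpaceOver m (Spec (CommRingCat.of Ω)))
  (i' : X' ⟶ CohB1.ProjSpaceOver m (Spec (CommRingCat.of Ω))) [IsClosedImmersion i] [IsClosedImmersion i'],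
  CutOut D i → CutOut D i' → ∀ (J : Type) (x : J → (Spec (CommRingCat.of Ω) ⟶ X))
    (x' : J → (Spec (CommRingCat.of Ω) ⟶ X')), (∀ a, x a ≫ i = x' a ≫ i') →
    (∀ (F : X.Modules) (hF : PicF.IsInvertible F), mk F hF = pull i (o1T m _) ^ D →
      ∀ s : Γ(F, ⊤), (∀ a, pullTop (x a) s = 0) → s = 0) →
    (∀ (F : X'.Modules) (hF : PicF.IsInvertible F), mk F hF = pull i' (o1T m _) ^ D →
      ∀ s : Γ(F, ⊤), (∀ a, pullTop (x' a) s = 0) → s = 0) →
    ∃ θ : X ≅ X', θ.hom ≫ i' = i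

/-- Linear automorphisms of projective space. -/
def LinStmt : Prop := ∀ (m : ℕ) (T : Scheme.{u}) (g g' : Matrix (Fin (m + 1)) (Fin (m + 1)) Γ(T, ⊤)), g * g' = 1 →
  g' * g = 1 → ∃ G : CohB1.ProjSpaceOver m T ≅ CohB1.ProjSpaceOver m T,
    (∀ (X : Scheme.{u}) (q : X ⟶ T) (L : X.Modules) (e : Fin (m + 1) → Γ(L, ⊤))
      (r r' : X ⟶ CohB1.ProjSpace m (ULift.{u} ℤ)), GivenBy r L e →
      GivenBy r' L (fun l => ∑ k, (q.appTop (g k l)) • e k) → liftP r q ≫ G.hom = liftP r' q) ∧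
    ∀ (D : ℕ) (X : Scheme.{u}) (i : X ⟶ CohB1.ProjSpaceOver m T), CutOut D i → CutOut D (i ≫ G.hom)

theorem pull_liftP {T Y : Scheme.{u}} {m : ℕ} {r : Y ⟶ CohB1.ProjSpace m (ULift.{u} ℤ)} (q : Y ⟶ T) {L : Y.Modules}
    (hL : PicF.IsInvertible L) {e : Fin (m + 1) → Γ(L, ⊤)} (h : GivenBy r L e) :
    pull (liftP r q) (o1T m T) = mk L hL := by
  rw [o1T, ← pull_comp, liftP_toZ, K117.Ag.o1, pull_mk _ (K390.PnSec.isInvertible_O1 m (ULift.{u} ℤ)), mk_eq_iff]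
  obtain ⟨τ, -⟩ := h
  exact ⟨τ⟩

/-- Sections with coordinates in an invertible matrix. -/
theorem exists_givenBy_mul {T Y : Scheme.{u}} {m : ℕ} (q : Y ⟶ T) {L : Y.Modules} (hL : PicF.IsInvertible L)
    {e : Fin (m + 1) → Γ(L, ⊤)} {r : Y ⟶ CohB1.ProjSpace m (ULift.{u} ℤ)} (h : GivenBy r L e)
    (g g' : Matrix (Fin (m + 1)) (Fin (m + 1)) Γ(T, ⊤)) (hg : g * g' = 1) :
    ∃ r' : Y ⟶ CohB1.ProjSpace m (ULift.{u} ℤ), GivenBy r' L (fun l => ∑ k, (q.appTop (g k l)) • e k) := by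
  refine exists_givenBy' _ (K515.FrameGeom.iSup_genLocus_of_comb hL (fun j l => q.appTop (g' l j)) (s := e) ?_
    h.iSup_genLocus)
  intro j
  have h1 : ∀ k, ∑ l, (q.appTop (g' l j)) * (q.appTop (g k l)) = q.appTop ((1 : Matrix _ _ Γ(T, ⊤)) k j) := by
    intro k
    rw [← hg, Matrix.mul_apply, map_sum]
    refine Finset.sum_congr rfl fun l _ => ?_
    rw [map_mul, mul_comm]
  simp_rw [Finset.smul_sum, smul_smul]
  rw [Finset.sum_comm]
  simp_rw [← Finset.sum_smul, h1]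
  rw [Finset.sum_eq_single j]
  · rw [Matrix.one_apply_eq, map_one, one_smul]
  · intro i _ hi
    rw [Matrix.one_apply_ne hi, map_zero, zero_smul]
  · intro h3
    exact absurd (Finset.mem_univ j) h3

theorem appTop_section {T Y : Scheme.{u}} (q : Y ⟶ T) (x : T ⟶ Y) (hx : x ≫ q = 𝟙 T) (b : Γ(T, ⊤)) :
    x.appTop (q.appTop b) = b := by
  have e1 : q.appTop ≫ x.appTop = 𝟙 _ := by
    rw [← Scheme.Hom.comp_appTop, hx, Scheme.Hom.id_appTop]
  exact congr($e1 b)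

/-- **Comparison.** -/
theorem step (hfib : FibStmt.{u}) (hlin : LinStmt.{u}) {Ω : Type u} [Field Ω] [IsAlgClosed Ω] {Y Y' : Scheme.{u}}
    [IsReduced Y] [IsReduced Y'] (q : Y ⟶ Spec (CommRingCat.of Ω)) (q' : Y' ⟶ Spec (CommRingCat.of Ω))
    {L : Y.Modules} {L' : Y'.Modules} (hL : PicF.IsInvertible L) (hL' : PicF.IsInvertible L') {m D : ℕ}
    {e : Fin (m + 1) → Γ(L, ⊤)} {e' : Fin (m + 1) → Γ(L', ⊤)} {r : Y ⟶ CohB1.ProjSpace m (ULift.{u} ℤ)}
    {r' : Y' ⟶ CohB1.ProjSpace m (ULift.{u} ℤ)} (hr : GivenBy r L e) (hr' : GivenBy r' L' e')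
    (hi : IsClosedImmersion (liftP r q)) (hi' : IsClosedImmersion (liftP r' q')) (hc : CutOut D (liftP r q))
    (hc' : CutOut D (liftP r' q')) {J : Type} (x : J → (Spec (CommRingCat.of Ω) ⟶ Y))
    (x' : J → (Spec (CommRingCat.of Ω) ⟶ Y')) (hx : ∀ a, x a ≫ q = 𝟙 _) (hx' : ∀ a, x' a ≫ q' = 𝟙 _)
    (hinj : ∀ (F : Y.Modules) (hF : PicF.IsInvertible F), mk F hF = mk L hL ^ D →
      ∀ s : Γ(F, ⊤), (∀ a, pullTop (x a) s = 0) → s = 0)
    (hinj' : ∀ (F : Y'.Modules) (hF : PicF.IsInvertible F), mk F hF = mk L' hL' ^ D →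
      ∀ s : Γ(F, ⊤), (∀ a, pullTop (x' a) s = 0) → s = 0)
    (A A' : Matrix J (Fin (m + 1)) Γ(Spec (CommRingCat.of Ω), ⊤))
    (hA : ∀ a, ∃ η : Γ((Scheme.Modules.pullback (x a)).obj L, ⊤), IsGen η ∧ ∀ l, pullTop (x a) (e l) = A a l • η)
    (hA' : ∀ a, ∃ η : Γ((Scheme.Modules.pullback (x' a)).obj L', ⊤), IsGen η ∧
      ∀ l, pullTop (x' a) (e' l) = A' a l • η)
    (g g' : Matrix (Fin (m + 1)) (Fin (m + 1)) Γ(Spec (CommRingCat.of Ω), ⊤)) (hg : g * g' = 1) (hg' : g' * g = 1)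
    (hAg : A = A' * g) :
    ∃ θ : Y ≅ Y', θ.hom ≫ q' = q ∧ (∀ a, x a ≫ θ.hom = x' a) ∧ pull θ.hom (mk L' hL') = mk L hL := by
  obtain ⟨G, hG, hGD⟩ := hlin m _ g g' hg hg'
  obtain ⟨r'', hr''⟩ := exists_givenBy_mul q' hL' hr' g g' hg
  have e1 : liftP r' q' ≫ G.hom = liftP r'' q' := hG Y' q' L' e' r' r'' hr' hr''
  have hi'' : IsClosedImmersion (liftP r'' q') := by
    rw [← e1]
    infer_instance
  have hc'' : CutOut D (liftP r'' q') := by
    rw [← e1]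
    exact hGD D _ _ hc'
  -- the points
  have e2 : ∀ a, x a ≫ r = x' a ≫ r'' := by
    intro a
    obtain ⟨η, h1, h2⟩ := hA a
    obtain ⟨η', h1', h2'⟩ := hA' a
    have h3 : IsPt (x a ≫ r) (A a) := isPt_of_eq (hr.comp (x a)) h1 h2
    have h4 : IsPt (x' a ≫ r'') (A a) := by
      refine isPt_of_eq (hr''.comp (x' a)) h1' fun l => ?_
      rw [pullTop_sum_smul, hAg, Matrix.mul_apply, Finset.sum_smul]
      refine Finset.sum_congr rfl fun k _ => ?_
      rw [appTop_section q' (x' a) (hx' a), h2', smul_smul, mul_comm]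
    exact h3.uniq h4
  have e3 : ∀ a, x a ≫ liftP r q = x' a ≫ liftP r'' q' := by
    intro a
    refine hom_ext_over ?_ ?_
    · rw [Category.assoc, Category.assoc, liftP_toZ, liftP_toZ, e2]
    · rw [Category.assoc, Category.assoc, liftP_toBase, liftP_toBase, hx, hx']
  have e4 : pull (liftP r q) (o1T m _) = mk L hL := pull_liftP q hL hr
  have e5 : pull (liftP r'' q') (o1T m _) = mk L' hL' := pull_liftP q' hL' hr''
  obtain ⟨θ, hθ⟩ := hfib Ω Y Y' m D (liftP r q) (liftP r'' q') hc hc'' J x x' e3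
    (fun F hF h => hinj F hF (by rw [h, e4])) (fun F hF h => hinj' F hF (by rw [h, e5]))
  refine ⟨θ, ?_, fun a => ?_, ?_⟩
  · rw [← liftP_toBase r'' q', reassoc_of% hθ, liftP_toBase]
  · rw [← cancel_mono (liftP r'' q'), Category.assoc, hθ, e3]
  · rw [← e5, ← pull_comp, hθ, e4]

end K652.QPStep
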